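import Groth.Agent.KSix54.Rel.Local
import Mathlib.AlgebraicGeometry.Morphisms.FiniteType

/-! Relative pseudo-coherence on arbitrary pairs of affine opens. -/

set_option linter.style.haveILetI false
set_option backward.isDefEq.respectTransparency false

universe u

open CategoryTheory CategoryTheory.Limits AlgebraicGeometry

attribute [local instance] HasDerivedCategory.standard

namespace Groth.Agent.KSix54

open Groth.Agent.KFlatLib Groth.Agent.H9Misc.DRingRelPC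

variable {X Y : Scheme.{u}} (f : X ⟶ Y)

/-- A presentation of the sections over `U` over those over `V`, compatible with `f`. -/
def IsPres (U : X.Opens) (V : Y.Opens) {n : ℕ}
    (φ : CommRingCat.of (MvPolynomial (Fin n) Γ(Y, V)) ⟶ Γ(X, U)) : Prop :=
  ∃ h : U ≤ f ⁻¹ᵁ V, Function.Surjective φ ∧ ∀ r, φ (MvPolynomial.C r) = f.appLE V U h r

variable {f}

lemma IsPres.surjective {U : X.Opens} {V : Y.Opens} {n : ℕ}
    {φ : CommRingCat.of (MvPolynomial (Fin n) Γ(Y, V)) ⟶ Γ(X, U)} (h : IsPres f U V φ) :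
    Function.Surjective φ := h.2.1

lemma IsPres.isChart {U : X.Opens} {V : Y.Opens} {n : ℕ}
    {φ : CommRingCat.of (MvPolynomial (Fin n) Γ(Y, V)) ⟶ Γ(X, U)} (h : IsPres f U V φ)
    (e : U ≤ f ⁻¹ᵁ V) : DerSch.IsChart f U V e φ.hom :=
  ⟨h.surjective, RingHom.ext h.2.2⟩

lemma isPres_of_isChart {U : X.Opens} {V : Y.Opens} {n : ℕ} {e : U ≤ f ⁻¹ᵁ V}
    {φ : MvPolynomial (Fin n) Γ(Y, V) →+* Γ(X, U)} (h : DerSch.IsChart f U V e φ) :
    IsPres f U V (CommRingCat.ofHom φ : CommRingCat.of (MvPolynomial (Fin n) Γ(Y, V)) ⟶ _) :=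
  ⟨e, h.1, RingHom.congr_fun h.2⟩

lemma exists_isPres [LocallyOfFiniteType f] {U : X.Opens} {V : Y.Opens} (hU : IsAffineOpen U)
    (hV : IsAffineOpen V) (h : U ≤ f ⁻¹ᵁ V) :
    ∃ (n : ℕ) (φ : CommRingCat.of (MvPolynomial (Fin n) Γ(Y, V)) ⟶ Γ(X, U)), IsPres f U V φ := by
  letI := (f.appLE V U h).hom.toAlgebra
  haveI : Algebra.FiniteType Γ(Y, V) Γ(X, U) := f.finiteType_appLE hV hU h
  obtain ⟨n, α, hα⟩ := exists_presentation Γ(Y, V) Γ(X, U)
  exact ⟨n, CommRingCat.ofHom α.toRingHom, h, hα, fun r => α.commutes r⟩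

variable (f) in
/-- The pair `(U, V)` passes the test at `K`. -/
def PCOn (m : ℤ) (K : DCoh.D X) (U : X.Opens) (V : Y.Opens) : Prop :=
  ∃ (hU : IsAffineOpen U) (n : ℕ) (φ : CommRingCat.of (MvPolynomial (Fin n) Γ(Y, V)) ⟶ Γ(X, U))
    (hφ : IsPres f U V φ), ImmPC m K hU φ hφ.surjective

variable {m : ℤ} {K : DCoh.D X}

lemma PCOn.any {U : X.Opens} {V : Y.Opens} (h : PCOn f m K U V) (hU : IsAffineOpen U) {n : ℕ}
    (φ : CommRingCat.of (MvPolynomial (Fin n) Γ(Y, V)) ⟶ Γ(X, U)) (hφ : IsPres f U V φ) :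
    ImmPC m K hU φ hφ.surjective := by
  obtain ⟨_, k, ψ, hψ, hP⟩ := h
  exact (immPC_charts_iff m K hU ψ hψ.surjective φ hφ.surjective
    (RingHom.ext fun r => (hψ.2.2 r).trans (hφ.2.2 r).symm)).1 hP

lemma PCOn.le {U : X.Opens} {V : Y.Opens} (h : PCOn f m K U V) : U ≤ f ⁻¹ᵁ V := by
  obtain ⟨_, _, _, hφ, _⟩ := h
  exact hφ.1

lemma PCOn.isAffineOpen {U : X.Opens} {V : Y.Opens} (h : PCOn f m K U V) : IsAffineOpen U := h.1

lemma surjective_flatten {R : Type u} [CommRing R] (n k : ℕ) :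
    ∃ e : MvPolynomial (Fin (k + n)) R ≃ₐ[R] MvPolynomial (Fin k) (MvPolynomial (Fin n) R), True :=
  ⟨(MvPolynomial.renameEquiv R finSumFinEquiv.symm).trans (MvPolynomial.sumAlgEquiv R (Fin k) (Fin n)),
    trivial⟩

/-- Source: a basic open. -/
lemma PCOn.basicOpen {U : X.Opens} {V : Y.Opens} (h : PCOn f m K U V) (g : Γ(X, U)) :
    PCOn f m K (X.basicOpen g) V := by
  obtain ⟨hU, n, φ, hφ, hP⟩ := h
  obtain ⟨G, rfl⟩ := hφ.surjective g
  obtain ⟨e, -⟩ := surjective_flatten (R := Γ(Y, V)) n 1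
  let θ : CommRingCat.of (MvPolynomial (Fin (1 + n)) Γ(Y, V)) ⟶
      CommRingCat.of (MvPolynomial (Fin 1) (MvPolynomial (Fin n) Γ(Y, V))) :=
    CommRingCat.ofHom e.toRingEquiv.toRingHom
  have hθ : Function.Surjective θ := e.surjective
  refine ⟨hU.basicOpen _, 1 + n, θ ≫ awayθ (P := CommRingCat.of (MvPolynomial (Fin n) Γ(Y, V))) G ≫
      awayρ hU φ G, ⟨(X.basicOpen_le _).trans hφ.1,
        ((awayρ_surjective hU φ hφ.surjective G).comp (awayθ_surjective _)).comp hθ, fun r => ?_⟩, ?_⟩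
  · have h1 : θ (MvPolynomial.C r) = MvPolynomial.C (MvPolynomial.C r) := e.commutes r
    have h2 : awayρ hU φ G (algebraMap _ _ (MvPolynomial.C r : MvPolynomial (Fin n) Γ(Y, V))) =
        X.presheaf.map (homOfLE (X.basicOpen_le (φ G))).op (φ (MvPolynomial.C r)) :=
      RingHom.congr_fun (congrArg CommRingCat.Hom.hom (awayρ_spec hU φ G)) _
    have h3 : ∀ z, awayθ (P := CommRingCat.of (MvPolynomial (Fin n) Γ(Y, V))) G (MvPolynomial.C z) =
        algebraMap _ (Localization.Away G) z := fun z => by simp [awayθ]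
    change awayρ hU φ G (awayθ (P := CommRingCat.of (MvPolynomial (Fin n) Γ(Y, V))) G (θ (MvPolynomial.C r))) = _
    rw [h1]
    refine ((congrArg (awayρ hU φ G) (h3 _)).trans h2).trans ?_
    rw [hφ.2.2, ← CommRingCat.comp_apply, Scheme.Hom.appLE_map]
  · exact (immPC_comp_iff m K (hU.basicOpen _) θ hθ (PCHom.of_bijective e.bijective) _
      ((awayρ_surjective hU φ hφ.surjective G).comp (awayθ_surjective _))).2
      (immPC_basicOpen m K hU φ hφ.surjective G hP)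

/-- The map `Γ(V)[t] → Γ(V_r)`. -/
noncomputable def targetθ {V : Y.Opens} (hV : IsAffineOpen V) (r : Γ(Y, V)) :
    MvPolynomial (Fin 1) Γ(Y, V) →+* Γ(Y, Y.basicOpen r) :=
  letI := hV.isLocalization_basicOpen r
  (IsLocalization.algEquiv (Submonoid.powers r) (Localization.Away r)
    Γ(Y, Y.basicOpen r)).toRingEquiv.toRingHom.comp (awayθ r).hom

lemma targetθ_C {V : Y.Opens} (hV : IsAffineOpen V) (r s : Γ(Y, V)) :
    targetθ hV r (MvPolynomial.C s) = Y.presheaf.map (homOfLE (Y.basicOpen_le r)).op s := by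
  letI := hV.isLocalization_basicOpen r
  simp [targetθ, awayθ]
  rfl

lemma targetθ_pcHom {V : Y.Opens} (hV : IsAffineOpen V) (r : Γ(Y, V)) : PCHom (targetθ hV r) := by
  letI := hV.isLocalization_basicOpen r
  exact (pcHom_away_mv r).comp (PCHom.of_bijective (IsLocalization.algEquiv _ _ _).bijective)

lemma targetθ_surjective {V : Y.Opens} (hV : IsAffineOpen V) (r : Γ(Y, V)) :
    Function.Surjective (targetθ hV r) := by
  letI := hV.isLocalization_basicOpen r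
  exact (IsLocalization.algEquiv _ _ _).surjective.comp (awayθ_surjective r)

/-- Target: a basic open. -/
lemma pcOn_target_iff {U : X.Opens} {V : Y.Opens} (hV : IsAffineOpen V) (r : Γ(Y, V))
    (hr : U ≤ f ⁻¹ᵁ Y.basicOpen r) : PCOn f m K U (Y.basicOpen r) ↔ PCOn f m K U V := by
  have hUV : U ≤ f ⁻¹ᵁ V := hr.trans (f.preimage_mono (Y.basicOpen_le r))
  have hres : ∀ s, f.appLE (Y.basicOpen r) U hr (Y.presheaf.map (homOfLE (Y.basicOpen_le r)).op s) =
      f.appLE V U hUV s := fun s => by rw [← CommRingCat.comp_apply, Scheme.Hom.map_appLE]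
  have step : ∀ {n : ℕ} (φ : CommRingCat.of (MvPolynomial (Fin n) Γ(Y, Y.basicOpen r)) ⟶ Γ(X, U))
      (hφ : IsPres f U (Y.basicOpen r) φ) (hU : IsAffineOpen U),
      PCOn f m K U V ↔ ImmPC m K hU φ hφ.surjective := by
    intro n φ hφ hU
    obtain ⟨e, -⟩ := surjective_flatten (R := Γ(Y, V)) 1 n
    let θ : CommRingCat.of (MvPolynomial (Fin (n + 1)) Γ(Y, V)) ⟶
        CommRingCat.of (MvPolynomial (Fin n) Γ(Y, Y.basicOpen r)) :=
      CommRingCat.ofHom ((MvPolynomial.map (targetθ hV r)).comp e.toRingEquiv.toRingHom)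
    have hθ : Function.Surjective θ :=
      (MvPolynomial.map_surjective _ (targetθ_surjective hV r)).comp e.surjective
    have hpc : PCHom θ.hom :=
      (PCHom.of_bijective e.bijective).comp (pcHom_map _ (targetθ_pcHom hV r) n)
    have hψ : IsPres f U V (θ ≫ φ) := ⟨hUV, hφ.surjective.comp hθ, fun s => by
      have h1 : θ (MvPolynomial.C s) = MvPolynomial.C
          (Y.presheaf.map (homOfLE (Y.basicOpen_le r)).op s) := by
        change MvPolynomial.map (targetθ hV r) (e (MvPolynomial.C s)) = _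
        rw [show e (MvPolynomial.C s) = MvPolynomial.C (MvPolynomial.C s) from e.commutes s,
          MvPolynomial.map_C, targetθ_C]
      rw [CommRingCat.comp_apply, h1, hφ.2.2, hres]⟩
    rw [← immPC_comp_iff m K hU θ hθ hpc φ hφ.surjective]
    exact ⟨fun h => h.any hU _ hψ, fun h => ⟨hU, _, _, hψ, h⟩⟩
  constructor
  · rintro ⟨hU, n, φ, hφ, hP⟩
    exact (step φ hφ hU).2 hP
  · intro h
    obtain ⟨hU, n, φ, hφ, -⟩ := id h
    let φ' : CommRingCat.of (MvPolynomial (Fin n) Γ(Y, Y.basicOpen r)) ⟶ Γ(X, U) :=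
      CommRingCat.ofHom (MvPolynomial.eval₂Hom (f.appLE _ U hr).hom fun i => φ (MvPolynomial.X i))
    have hcomp : φ = CommRingCat.ofHom (MvPolynomial.map
        (Y.presheaf.map (homOfLE (Y.basicOpen_le r)).op).hom) ≫ φ' := by
      refine CommRingCat.hom_ext (MvPolynomial.ringHom_ext (fun s => ?_) fun i => ?_)
      · simp [φ', hφ.2.2, hres]
      · simp [φ']
    have hφ' : IsPres f U (Y.basicOpen r) φ' :=
      ⟨hr, surjective_of_comp_eq (fun a => (ConcreteCategory.congr_hom hcomp a).symm) hφ.surjective, fun s => by simp [φ']⟩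
    exact ⟨hU, n, φ', hφ', (step φ' hφ' hU).1 h⟩

/-- Gluing over the source. -/
lemma PCOn.of_cover [LocallyOfFiniteType f] {U : X.Opens} {V : Y.Opens} (hU : IsAffineOpen U)
    (hV : IsAffineOpen V) (hUV : U ≤ f ⁻¹ᵁ V)
    (h : ∀ x ∈ U, ∃ g : Γ(X, U), x ∈ X.basicOpen g ∧ PCOn f m K (X.basicOpen g) V) :
    PCOn f m K U V := by
  obtain ⟨n, φ, hφ⟩ := exists_isPres hU hV hUV
  refine ⟨hU, n, φ, hφ, immPC_of_cover m K hU φ hφ.surjective fun x hx => ?_⟩
  obtain ⟨g, hxg, hg⟩ := h x hx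
  obtain ⟨G, rfl⟩ := hφ.surjective g
  refine ⟨G, hxg, ?_⟩
  obtain ⟨e, -⟩ := surjective_flatten (R := Γ(Y, V)) n 1
  let θ : CommRingCat.of (MvPolynomial (Fin (1 + n)) Γ(Y, V)) ⟶
      CommRingCat.of (MvPolynomial (Fin 1) (MvPolynomial (Fin n) Γ(Y, V))) :=
    CommRingCat.ofHom e.toRingEquiv.toRingHom
  have hθ : Function.Surjective θ := e.surjective
  refine (immPC_comp_iff m K (hU.basicOpen _) θ hθ (PCHom.of_bijective e.bijective) _ _).1
    (hg.any (hU.basicOpen _) _ ⟨(X.basicOpen_le _).trans hUV,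
      ((awayρ_surjective hU φ hφ.surjective G).comp (awayθ_surjective _)).comp hθ, fun r => ?_⟩)
  have h1 : θ (MvPolynomial.C r) = MvPolynomial.C (MvPolynomial.C r) := e.commutes r
  have h2 : awayρ hU φ G (algebraMap _ _ (MvPolynomial.C r : MvPolynomial (Fin n) Γ(Y, V))) =
      X.presheaf.map (homOfLE (X.basicOpen_le (φ G))).op (φ (MvPolynomial.C r)) :=
    RingHom.congr_fun (congrArg CommRingCat.Hom.hom (awayρ_spec hU φ G)) _
  have h3 : ∀ z, awayθ (P := CommRingCat.of (MvPolynomial (Fin n) Γ(Y, V))) G (MvPolynomial.C z) =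
      algebraMap _ (Localization.Away G) z := fun z => by simp [awayθ]
  change awayρ hU φ G (awayθ (P := CommRingCat.of (MvPolynomial (Fin n) Γ(Y, V))) G (θ (MvPolynomial.C r))) = _
  rw [h1]
  refine ((congrArg (awayρ hU φ G) (h3 _)).trans h2).trans ?_
  rw [hφ.2.2, ← CommRingCat.comp_apply, Scheme.Hom.appLE_map]

/-- Every pair of affine opens passes the test as soon as one pair does near every point. -/
theorem pcOn_of_locally [LocallyOfFiniteType f]
    (h : ∀ x : X, ∃ (U : X.Opens) (V : Y.Opens), x ∈ U ∧ IsAffineOpen V ∧ PCOn f m K U V)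
    {U : X.Opens} {V : Y.Opens} (hU : IsAffineOpen U) (hV : IsAffineOpen V) (hUV : U ≤ f ⁻¹ᵁ V) :
    PCOn f m K U V := by
  refine PCOn.of_cover hU hV hUV fun x hx => ?_
  obtain ⟨U₀, V₀, hx₀, hV₀, hP⟩ := h x
  obtain ⟨r, s, hrs, hfx⟩ := exists_basicOpen_le_affine_inter hV hV₀ (f.base x) ⟨hUV hx, hP.le hx₀⟩
  have hW : f.base x ∈ Y.basicOpen s := hrs ▸ hfx
  let g₀ := f.appLE V₀ U₀ hP.le s
  have hg₀ : X.basicOpen g₀ = U₀ ⊓ f ⁻¹ᵁ Y.basicOpen s := Scheme.basicOpen_appLE f U₀ V₀ hP.le s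
  obtain ⟨g, g', hgg', hxg⟩ := exists_basicOpen_le_affine_inter hU
    (hP.isAffineOpen.basicOpen g₀) x ⟨hx, by rw [hg₀]; exact ⟨hx₀, hW⟩⟩
  refine ⟨g, hxg, ?_⟩
  rw [hgg']
  have hle : X.basicOpen g' ≤ f ⁻¹ᵁ Y.basicOpen s :=
    (X.basicOpen_le g').trans (hg₀.le.trans inf_le_right)
  have hle' : X.basicOpen g' ≤ f ⁻¹ᵁ Y.basicOpen r := by rw [hrs]; exact hle
  refine (pcOn_target_iff hV r hle').1 ?_
  rw [hrs]
  exact (pcOn_target_iff hV₀ s hle).2 ((hP.basicOpen g₀).basicOpen g')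

/-- The definition says that the test passes on every pair. -/
theorem isPseudoCoherentRel_iff :
    DerSch.IsPseudoCoherentRel f m K ↔ LocallyOfFiniteType f ∧
      ∀ (U : X.Opens) (V : Y.Opens), IsAffineOpen U → IsAffineOpen V → U ≤ f ⁻¹ᵁ V →
        PCOn f m K U V := by
  refine and_congr_right fun hf => ⟨fun ⟨𝒱, h𝒱, hcov⟩ U V hU hV hUV => ?_, fun h => ?_⟩
  · refine pcOn_of_locally (fun x => ?_) hU hV hUV
    obtain ⟨V₀, hV₀, hx₀⟩ : ∃ V₀ ∈ 𝒱, f.base x ∈ (V₀ : Y.Opens) := by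
      have : f.base x ∈ (⨆ V₀ ∈ 𝒱, (V₀ : Y.Opens)) := h𝒱 ▸ trivial
      simpa using this
    obtain ⟨𝒰, h𝒰, hch⟩ := hcov V₀ hV₀
    obtain ⟨U₀, hU₀, hxU⟩ : ∃ U₀ ∈ 𝒰, x ∈ (U₀ : X.Opens) := by
      have : x ∈ (⨆ U₀ ∈ 𝒰, (U₀ : X.Opens)) := h𝒰 ▸ hx₀
      simpa using this
    have hle : (U₀ : X.Opens) ≤ f ⁻¹ᵁ (V₀ : Y.Opens) :=
      (le_biSup (fun U : X.affineOpens => (U : X.Opens)) hU₀).trans_eq h𝒰
    obtain ⟨n, φ, hc, hP⟩ := hch U₀ hU₀ hle
    exact ⟨U₀, V₀, hxU, V₀.2, U₀.2, n, _, isPres_of_isChart hc, (chartPC_iff m K U₀.2 φ hc.1).1 hP⟩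
  · refine ⟨Set.univ, by simpa using iSup_affineOpens_eq_top Y, fun V _ =>
      ⟨{U | (U : X.Opens) ≤ f ⁻¹ᵁ (V : Y.Opens)}, ?_, fun U _ hUV => ?_⟩⟩
    · refine le_antisymm (iSup₂_le fun U hU => hU) fun x hx => ?_
      obtain ⟨W, hW, hxW, hle⟩ := exists_isAffineOpen_mem_and_subset (x := x) hx
      exact TopologicalSpace.Opens.mem_iSup.2 ⟨⟨W, hW⟩,
        TopologicalSpace.Opens.mem_iSup.2 ⟨hle, hxW⟩⟩
    · obtain ⟨n, φ, hφ⟩ := exists_isPres U.2 V.2 hUV
      exact ⟨n, φ.hom, hφ.isChart hUV, (chartPC_iff m K U.2 φ.hom hφ.surjective).2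
        ((h U V U.2 V.2 hUV).any U.2 φ hφ)⟩

/-- Relative pseudo-coherence from one pair near each point. -/
theorem isPseudoCoherentRel_of_locally [LocallyOfFiniteType f]
    (h : ∀ x : X, ∃ (U : X.Opens) (V : Y.Opens), x ∈ U ∧ IsAffineOpen V ∧ PCOn f m K U V) :
    DerSch.IsPseudoCoherentRel f m K :=
  isPseudoCoherentRel_iff.2 ⟨inferInstance, fun _ _ => pcOn_of_locally h⟩

end Groth.Agent.KSix54
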