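import Groth.Agent.KSix54.Rel.Ops

/-! The structure sheaf in the chart test. -/

set_option linter.style.haveILetI false
set_option backward.isDefEq.respectTransparency false

universe u

open CategoryTheory CategoryTheory.Limits AlgebraicGeometry

attribute [local instance] HasDerivedCategory.standard

namespace Groth.Agent.KSix54

open Groth.Agent.KFlatLib

variable {X Y : Scheme.{u}}

/-- The structure sheaf as an object of the derived category. -/
noncomputable abbrev unitD (X : Scheme.{u}) : DCoh.D X := DCoh.inD X (Coh.structureModule X)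

/-- The complex `O_X[0]` represents `unitD X`. -/
noncomputable def unitCxIso (X : Scheme.{u}) : DCoh.toD X (DerSch.unitCx X) ≅ unitD X :=
  ((DerivedCategory.singleFunctorIsoCompQ X.Modules 0).app _).symm

/-- The structure sheaf restricts to the structure sheaf. -/
noncomputable def rhoUnit {U : Scheme.{u}} (j : U ⟶ X) [IsOpenImmersion j] :
    (rho j).obj (unitD X) ≅ unitD U :=
  rhoSingle j _ ≪≫ (DerivedCategory.singleFunctor _ 0).mapIso (restrictStructureIso j)

lemma immPC_unit_iff_pushPC {s : ℤ} {U : X.Opens} (hU : IsAffineOpen U) {P : CommRingCat.{u}}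
    (ρ : P ⟶ Γ(X, U)) (hρ : Function.Surjective ρ) :
    ImmPC s (unitD X) hU ρ hρ ↔ PushPC (imm U ρ) s := by
  haveI := isClosedImmersion_imm hU ρ hρ
  let e := (pushD (imm U ρ)).mapIso (rhoUnit U.ι) ≪≫ pushSingle (imm U ρ) _
  exact ⟨LocPC.of_iso e, LocPC.of_iso e.symm⟩

/-- Direct image of the structure sheaf along an isomorphism followed by a morphism. -/
lemma pushPC_iso_comp_iff {A B C : Scheme.{u}} (e : A ⟶ B) [IsIso e] (g : B ⟶ C)
    [IsClosedImmersion g] (s : ℤ) : PushPC (e ≫ g) s ↔ PushPC g s := by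
  let k : (pushD (e ≫ g)).obj (unitD A) ≅ (pushD g).obj (unitD B) :=
    pushDComp e g _ ≪≫ (pushD g).mapIso (pushSingle e _ ≪≫
      (DerivedCategory.singleFunctor _ 0).mapIso (pushStructureIso (asIso e)))
  exact ⟨fun h => LocPC.of_iso ((pushSingle (e ≫ g) _).symm ≪≫ k ≪≫ pushSingle g _) h,
    fun h => LocPC.of_iso ((pushSingle (e ≫ g) _).symm ≪≫ k ≪≫ pushSingle g _).symm h⟩

/-- The structure sheaf passes the test exactly when the sections form a pseudo-coherent module. -/
theorem immPC_unit_iff {s : ℤ} {U : X.Opens} (hU : IsAffineOpen U) {P : CommRingCat.{u}}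
    (ρ : P ⟶ Γ(X, U)) (hρ : Function.Surjective ρ) :
    ImmPC s (unitD X) hU ρ hρ ↔ DRing.IsPseudoCoherentModule (P : Type u) s
      ((ModuleCat.restrictScalars ρ.hom).obj (ModuleCat.of Γ(X, U) Γ(X, U))) := by
  rw [immPC_unit_iff_pushPC hU ρ hρ, ← pushPC_spec_iff]
  haveI := IsClosedImmersion.spec_of_surjective ρ hρ
  haveI : IsIso U.toSpecΓ := hU.isoSpec_hom ▸ inferInstance
  exact pushPC_iso_comp_iff U.toSpecΓ (Spec.map ρ) s

variable {f : X ⟶ Y}

theorem isNPseudoCoherent_iff {s : ℤ} :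
    DerSch.IsNPseudoCoherent f s ↔ DerSch.IsPseudoCoherentRel f s (unitD X) :=
  ⟨isPseudoCoherentRel_of_iso (unitCxIso X), isPseudoCoherentRel_of_iso (unitCxIso X).symm⟩

/-- A pseudo-coherent morphism gives closed immersions with pseudo-coherent direct image. -/
theorem pushPC_of_isNPseudoCoherent {s : ℤ} (h : DerSch.IsNPseudoCoherent f s) {U : X.Opens}
    {V : Y.Opens} (hU : IsAffineOpen U) (hV : IsAffineOpen V) {n : ℕ}
    (φ : CommRingCat.of (MvPolynomial (Fin n) Γ(Y, V)) ⟶ Γ(X, U)) (hφ : IsPres f U V φ) :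
    PushPC (imm U φ) s :=
  (immPC_unit_iff_pushPC hU φ hφ.surjective).1
    (((isPseudoCoherentRel_iff.1 (isNPseudoCoherent_iff.1 h)).2 U V hU hV hφ.1).any hU φ hφ)

/-- Over a pseudo-coherent morphism absolute and relative pseudo-coherence agree. -/
theorem isPseudoCoherentRel_iff_locPC [LocallyOfFiniteType f]
    (hf : ∀ s, DerSch.IsNPseudoCoherent f s) {m : ℤ} (K : DCoh.D X) :
    DerSch.IsPseudoCoherentRel f m K ↔ LocPC m K := by
  constructor
  · intro h
    refine LocPC.of_local fun x => ?_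
    obtain ⟨V, hV, hxV, -⟩ :=
      exists_isAffineOpen_mem_and_subset (X := Y) (x := f.base x) (U := ⊤) trivial
    obtain ⟨U, hU', hxU, hUV⟩ :=
      exists_isAffineOpen_mem_and_subset (X := X) (x := x) (U := f ⁻¹ᵁ V) hxV
    obtain ⟨hU, n, φ, hφ, hP⟩ := (isPseudoCoherentRel_iff.1 h).2 U V hU' hV hUV
    haveI := isClosedImmersion_imm hU φ hφ.surjective
    exact ⟨_, U.ι, inferInstance, ⟨⟨x, hxU⟩, rfl⟩,
      (locPC_push_iff (imm U φ) (fun t => pushPC_of_isNPseudoCoherent (hf t) hU hV φ hφ) _).1 hP⟩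
  · intro h
    refine isPseudoCoherentRel_iff.2 ⟨inferInstance, fun U V hU hV hUV => ?_⟩
    obtain ⟨n, φ, hφ⟩ := exists_isPres hU hV hUV
    haveI := isClosedImmersion_imm hU φ hφ.surjective
    exact ⟨hU, n, φ, hφ, (locPC_push_iff (imm U φ)
      (fun t => pushPC_of_isNPseudoCoherent (hf t) hU hV φ hφ) _).2 (LocPC.restrict h U.ι)⟩

end Groth.Agent.KSix54
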