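import Groth.Agent.KSix54.Rel.SingleChart

/-! Flat finitely presented modules are relatively pseudo-coherent. -/

set_option linter.style.haveILetI false

universe u

open CategoryTheory CategoryTheory.Limits AlgebraicGeometry

attribute [local instance] HasDerivedCategory.standard

namespace Groth.Agent.KSix54

open Groth.Agent.H9Misc

variable {X Y : Scheme.{u}} {f : X ⟶ Y}

lemma isQCoh_of_rel_neg_one {M : X.Modules}
    (h : DerSch.IsPseudoCoherentRel f (-1) (DCoh.inD X M)) : Coh.IsQCoh M :=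
  KFlatLib.isQCoh_of_iso ((DerivedCategory.singleFunctorCompHomologyFunctorIso X.Modules 0).app M)
    (isQCoh_HD_of_rel h 0 (by omega))

theorem isPseudoCoherentRel_of_flat_fp {M : X.Modules} (hfl : FlatMod.IsFlatOver f M)
    (h : DerSch.IsPseudoCoherentRel f (-1) (DCoh.inD X M)) (m : ℤ) :
    DerSch.IsPseudoCoherentRel f m (DCoh.inD X M) := by
  have hM := isQCoh_of_rel_neg_one h
  obtain ⟨hf, h⟩ := isPseudoCoherentRel_iff.1 h
  refine isPseudoCoherentRel_iff.2 ⟨hf, fun U V hU' hV hUV => ?_⟩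
  obtain ⟨hU, n, φ, hφ, hP⟩ := h U V hU' hV hUV
  refine ⟨hU, n, φ, hφ, (immPC_single_iff hM m hU φ hφ.surjective).2 ?_⟩
  let A := Γ(Y, V)
  let P := MvPolynomial (Fin n) A
  let N : ModuleCat.{u} P := (ModuleCat.restrictScalars φ.hom).obj (secMod M hU)
  haveI : Module.FinitePresentation P N :=
    DRingPC.finitePresentation_of_pc ((immPC_single_iff hM (-1) hU φ hφ.surjective).1 hP)
  letI : Module A N := Module.compHom N (MvPolynomial.C : A →+* P)
  haveI : IsScalarTower A P N := IsScalarTower.of_algebraMap_smul fun _ _ => rfl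
  haveI := flat_secMod hM hfl hU hV hUV
  let e : N ≃ₗ[A] ((ModuleCat.restrictScalars (f.appLE V U hUV).hom).obj (secMod M hU)) :=
    { AddEquiv.refl _ with
      map_smul' := fun r x => by
        show φ (MvPolynomial.C r) • (show secMod M hU from x) = f.appLE V U hUV r • (show secMod M hU from x)
        rw [hφ.2.2] }
  haveI : Module.Flat A N := Module.Flat.of_linearEquiv e
  exact (DRingPC.pc'_iff _).1 (pc'_of_flat_fp A (P := P) N) m

open Groth.Agent.KFlatLib in
/-- A bounded above complex with relatively pseudo-coherent terms. -/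
theorem isPseudoCoherentRel_of_terms [LocallyOfFiniteType f] {m b : ℤ} (E : CochainComplex X.Modules ℤ)
    (hb : ∀ i : ℤ, b < i → IsZero (E.X i))
    (h : ∀ i : ℤ, m ≤ i → DerSch.IsPseudoCoherentRel f (m - i) (DCoh.inD X (E.X i))) :
    DerSch.IsPseudoCoherentRel f m (DCoh.toD X E) := by
  refine isPseudoCoherentRel_iff.2 ⟨inferInstance, fun U V hU hV hUV => ?_⟩
  obtain ⟨n, φ, hφ⟩ := exists_isPres (f := f) hU hV hUV
  haveI := isClosedImmersion_imm hU φ hφ.surjective
  refine ⟨hU, n, φ, hφ, ?_⟩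
  let P := ((Scheme.Modules.pushforward (imm U φ)).mapHomologicalComplex (ComplexShape.up ℤ)).obj
    ((rCx U.ι).obj E)
  let e : (pushD (imm U φ)).obj ((rho U.ι).obj (DCoh.toD X E)) ≅ DerivedCategory.Q.obj P :=
    (pushD (imm U φ)).mapIso ((rhoQ U.ι).app E) ≪≫ (pushQ (imm U φ)).app _
  refine LocPC.of_iso e.symm (locPC_Q_of_terms m (b + 1 - m).toNat P (fun i hi => ?_) fun i hi => ?_)
  · exact (Scheme.Modules.pushforward (imm U φ)).map_isZero
      ((Scheme.Modules.restrictFunctor U.ι).map_isZero (hb i (by omega)))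
  · obtain ⟨hU', k, ψ, hψ, hP⟩ := (isPseudoCoherentRel_iff.1 (h i hi)).2 U V hU hV hUV
    have hQ : ImmPC (m - i) (DCoh.inD X (E.X i)) hU φ hφ.surjective :=
      (immPC_charts_iff (m - i) _ hU ψ hψ.surjective φ hφ.surjective
        (RingHom.ext fun r => (hψ.2.2 r).trans (hφ.2.2 r).symm)).1 hP
    exact LocPC.of_iso ((pushD (imm U φ)).mapIso (rhoSingle U.ι (E.X i)) ≪≫
      pushSingle (imm U φ) _) hQ

end Groth.Agent.KSix54
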