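import Groth.Agent.KSix54.Rel.Smooth
import Groth.Agent.KSix54.AmpLocal
import Groth.Prelude.Def_KSix

/-! Relative perfection of direct images. -/

set_option linter.style.haveILetI false

universe u

open CategoryTheory CategoryTheory.Limits AlgebraicGeometry

attribute [local instance] HasDerivedCategory.standard

namespace Groth.Agent.KSix54

open Groth.Agent.KFlatLib

variable {X Y S : Scheme.{u}}

/-- A local strictly perfect model gives pseudo-coherence in every degree. -/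
theorem locPC_of_models {G : CochainComplex Y.Modules ℤ}
    (h : ∀ y : Y, ∃ (V : Y.Opens), y ∈ V ∧ ∃ E : CochainComplex (V : Scheme.{u}).Modules ℤ,
      DCoh.IsStrictlyPerfect E ∧
      Nonempty (DerivedCategory.Q.obj ((DCoh.restrictCx V).obj G) ≅ DerivedCategory.Q.obj E))
    (m : ℤ) : LocPC m (DCoh.toD Y G) :=
  LocSP.locPC (fun y => by
    obtain ⟨V, hyV, E, hE, ⟨e⟩⟩ := h y
    exact ⟨_, V.ι, inferInstance, ⟨⟨y, hyV⟩, rfl⟩, E, hE, ⟨e.symm ≪≫ ((rhoQ V.ι).app G).symm⟩⟩) m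

/-- A local flat model gives tor amplitude at the points it covers. -/
theorem torAmplitudeAt_of_model {G : CochainComplex Y.Modules ℤ} {a b : ℤ} {V : Y.Opens}
    {E : CochainComplex (V : Scheme.{u}).Modules ℤ} (hv : DCoh.VanishesOutside E a b)
    (hf : ∀ i, FlatMod.IsFinLocFree (E.X i))
    (e : DerivedCategory.Q.obj ((DCoh.restrictCx V).obj G) ≅ DerivedCategory.Q.obj E) {y : Y} (hy : y ∈ V) :
    DerSch.HasTorAmplitudeAt (𝟙 Y) a b G y :=
  torAmplitudeAt_id_of_local V.ι ⟨E, hv, fun i => isFlat_of_isFinLocFree (hf i), ⟨e.symm⟩⟩ ⟨y, hy⟩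

variable (i : X ⟶ Y) [IsClosedImmersion i] (g : Y ⟶ S) [LocallyOfFinitePresentation g] [Flat g]

theorem pcRelAll_of_locPC {F : CochainComplex X.Modules ℤ}
    (h : ∀ m, LocPC m (DCoh.toD Y (((Scheme.Modules.pushforward i).mapHomologicalComplex (ComplexShape.up ℤ)).obj F))) :
    DerSch.IsPseudoCoherentRelAll (i ≫ g) (DCoh.toD X F) := fun m =>
  (isPseudoCoherentRel_comp_closed_iff i g (fun t => isNPseudoCoherent_flat g t) _).2
    (LocPC.of_iso ((pushQ i).app F).symm (h m))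

theorem torAmplitudeAt_closed_flat {F : CochainComplex X.Modules ℤ} {a b : ℤ} {x : X}
    (h : DerSch.HasTorAmplitudeAt (𝟙 Y) a b
      (((Scheme.Modules.pushforward i).mapHomologicalComplex (ComplexShape.up ℤ)).obj F) (i.base x)) :
    DerSch.HasTorAmplitudeAt (i ≫ g) a b F x :=
  torAmplitudeAt_comp_flat (torAmplitudeAt_of_push i h)

theorem perfAmplitudeRel_of_push {F : CochainComplex X.Modules ℤ} {a b : ℤ}
    (h : KSix.HasPerfectAmplitudeIn a b (DCoh.toD Y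
      (((Scheme.Modules.pushforward i).mapHomologicalComplex (ComplexShape.up ℤ)).obj F))) :
    DerSch.HasPerfAmplitudeRel (i ≫ g) a b F := by
  refine ⟨pcRelAll_of_locPC i g (locPC_of_models fun y => ?_), fun x => ?_⟩
  · obtain ⟨V, hy, hV⟩ := h y
    obtain ⟨E, hv, hf, he⟩ := hV _ ⟨Iso.refl _⟩
    exact ⟨V, hy, E, ⟨⟨a, b, hv⟩, hf⟩, he⟩
  · obtain ⟨V, hy, hV⟩ := h (i.base x)
    obtain ⟨E, hv, hf, ⟨e⟩⟩ := hV _ ⟨Iso.refl _⟩
    exact torAmplitudeAt_closed_flat i g (torAmplitudeAt_of_model hv hf e hy)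

theorem isPerfectRel_of_push {F : CochainComplex X.Modules ℤ}
    (h : DCoh.IsPerfect (DCoh.toD Y
      (((Scheme.Modules.pushforward i).mapHomologicalComplex (ComplexShape.up ℤ)).obj F))) :
    DerSch.IsPerfectRel (i ≫ g) F := by
  refine ⟨pcRelAll_of_locPC i g (locPC_of_models fun y => ?_), fun x => ?_⟩
  · obtain ⟨V, hy, hV⟩ := h y
    obtain ⟨E, hE, he⟩ := hV _ ⟨Iso.refl _⟩
    exact ⟨V, hy, E, hE, he⟩
  · obtain ⟨V, hy, hV⟩ := h (i.base x)
    obtain ⟨E, ⟨⟨a, b, hv⟩, hf⟩, ⟨e⟩⟩ := hV _ ⟨Iso.refl _⟩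
    exact ⟨i ⁻¹ᵁ V, a, b, hy, fun x' hx' =>
      torAmplitudeAt_closed_flat i g (torAmplitudeAt_of_model hv hf e hx')⟩

/-- Perfect amplitude relative to a composite. -/
theorem perfAmplitudeRel_comp {Z : Scheme.{u}} (f : X ⟶ Y) (g : Y ⟶ Z) [LocallyOfFiniteType f]
    [LocallyOfFiniteType g] {n : ℕ} (hg : DerSch.HasPerfDimLE g n) {a b : ℤ} {F : CochainComplex X.Modules ℤ}
    (hF : DerSch.HasPerfAmplitudeRel f a b F) : DerSch.HasPerfAmplitudeRel (f ≫ g) (a - n) b F :=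
  ⟨fun m => isPseudoCoherentRel_mono (max_le le_rfl (le_of_eq (by omega)))
      (isPseudoCoherentRel_comp (fun j hj => isZero_HD_of_torAmplitude hF.2 j (Or.inr hj)) (hF.1 m)
        (hg.1 (m - b))),
    torAmplitude_comp hF.2 hg.2⟩

end Groth.Agent.KSix54
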