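import Groth.Agent.KSix54.Rel.Chart
import Groth.Agent.H9Misc.DRingRelPC2

/-! Localization of the pseudo-coherence test on charts. -/

set_option linter.style.haveILetI false
set_option backward.isDefEq.respectTransparency false

universe u

open CategoryTheory CategoryTheory.Limits AlgebraicGeometry

attribute [local instance] HasDerivedCategory.standard

namespace Groth.Agent.KSix54

open Groth.Agent.KFlatLib Groth.Agent.H9Misc.DRingRelPC

variable {X Y : Scheme.{u}}

/-- Along an isomorphism restriction is inverse to direct image. -/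
noncomputable def restrictPushIso {A B : Scheme.{u}} (e : A ≅ B) :
    Scheme.Modules.restrictFunctor e.hom ⋙ Scheme.Modules.pushforward e.hom ≅ 𝟭 B.Modules :=
  let c : Scheme.Modules.pushforward e.inv ⋙ Scheme.Modules.pushforward e.hom ≅ 𝟭 _ :=
    Scheme.Modules.pushforwardComp _ _ ≪≫
      Scheme.Modules.pushforwardCongr e.inv_hom_id ≪≫ Scheme.Modules.pushforwardId B
  let r : Scheme.Modules.restrictFunctor e.hom ≅ Scheme.Modules.pushforward e.inv :=
    (Functor.leftUnitor _).symm ≪≫ Functor.isoWhiskerRight c.symm _ ≪≫ Functor.associator _ _ _ ≪≫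
      Functor.isoWhiskerLeft _ (Scheme.Modules.restrictFunctorAdjCounitIso e.hom) ≪≫
      Functor.rightUnitor _
  Functor.isoWhiskerRight r _ ≪≫ c

lemma imm_preimage {U : X.Opens} {P : CommRingCat.{u}} (ρ : P ⟶ Γ(X, U)) (G : P) :
    (imm U ρ) ⁻¹ᵁ (PrimeSpectrum.basicOpen G) = U.ι ⁻¹ᵁ (X.basicOpen (ρ G)) :=
  U.toSpecΓ_preimage_basicOpen (ρ G)

lemma powers_le_comap {A B : Type*} [CommRing A] [CommRing B] (φ : A →+* B) (a : A) :
    Submonoid.powers a ≤ (Submonoid.powers (φ a)).comap φ := by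
  rintro _ ⟨n, rfl⟩
  exact ⟨n, (map_pow φ a n).symm⟩

/-- The induced presentation of the sections on a basic open. -/
noncomputable def awayρ {U : X.Opens} (hU : IsAffineOpen U) {P : CommRingCat.{u}}
    (ρ : P ⟶ Γ(X, U)) (G : P) :
    CommRingCat.of (Localization.Away G) ⟶ Γ(X, X.basicOpen (ρ G)) :=
  letI := hU.isLocalization_basicOpen (ρ G)
  CommRingCat.ofHom (IsLocalization.Away.map (Localization.Away G) Γ(X, X.basicOpen (ρ G)) ρ.hom G)

lemma awayρ_spec {U : X.Opens} (hU : IsAffineOpen U) {P : CommRingCat.{u}}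
    (ρ : P ⟶ Γ(X, U)) (G : P) :
    CommRingCat.ofHom (algebraMap P (Localization.Away G)) ≫ awayρ hU ρ G =
      ρ ≫ X.presheaf.map (homOfLE (X.basicOpen_le (ρ G))).op := by
  letI := hU.isLocalization_basicOpen (ρ G)
  refine CommRingCat.hom_ext ?_
  exact IsLocalization.map_comp (M := Submonoid.powers G) (T := Submonoid.powers (ρ G)) (powers_le_comap ρ.hom G)

lemma awayρ_surjective {U : X.Opens} (hU : IsAffineOpen U) {P : CommRingCat.{u}}
    (ρ : P ⟶ Γ(X, U)) (hρ : Function.Surjective ρ) (G : P) : Function.Surjective (awayρ hU ρ G) := by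
  letI := hU.isLocalization_basicOpen (ρ G)
  intro z
  obtain ⟨n, a, h⟩ := IsLocalization.Away.surj (S := Γ(X, X.basicOpen (ρ G))) (ρ G) z
  obtain ⟨c, rfl⟩ := hρ a
  refine ⟨algebraMap P (Localization.Away G) c * IsLocalization.Away.invSelf G ^ n, ?_⟩
  have hg : awayρ hU ρ G (algebraMap P (Localization.Away G) G) =
      algebraMap Γ(X, U) Γ(X, X.basicOpen (ρ G)) (ρ G) := IsLocalization.map_eq (M := Submonoid.powers G) (T := Submonoid.powers (ρ G)) (powers_le_comap ρ.hom G) _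
  have hc : awayρ hU ρ G (algebraMap P (Localization.Away G) c) =
      algebraMap Γ(X, U) Γ(X, X.basicOpen (ρ G)) (ρ c) := IsLocalization.map_eq (M := Submonoid.powers G) (T := Submonoid.powers (ρ G)) (powers_le_comap ρ.hom G) _
  have h1 : awayρ hU ρ G (IsLocalization.Away.invSelf G) *
      algebraMap Γ(X, U) Γ(X, X.basicOpen (ρ G)) (ρ G) = 1 := by
    rw [← hg, ← map_mul, mul_comm, IsLocalization.Away.mul_invSelf, map_one]
  rw [map_mul, map_pow, hc, ← h, mul_assoc, ← mul_pow,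
    mul_comm (algebraMap Γ(X, U) Γ(X, X.basicOpen (ρ G)) (ρ G)), h1, one_pow, mul_one]

/-- Direct image along an isomorphism of the restriction. -/
noncomputable def pushRhoIso {A B : Scheme.{u}} (e : A ≅ B) (L : DCoh.D B) :
    (pushD e.hom).obj ((rho e.hom).obj L) ≅ L :=
  (pushD e.hom).mapIso ((rho e.hom).mapIso (repIso L).symm ≪≫ (rhoQ e.hom).app _) ≪≫
    (pushQ e.hom).app _ ≪≫
    DerivedCategory.Q.mapIso ((NatIso.mapHomologicalComplex (restrictPushIso e)
      (ComplexShape.up ℤ)).app _ ≪≫ (Functor.mapHomologicalComplexIdIso _ _).app _) ≪≫ repIso L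

/-- The test on a basic open is the restriction of the test. -/
theorem immPC_basicOpen_iff (m : ℤ) (K : DCoh.D X) {U : X.Opens} (hU : IsAffineOpen U)
    {P : CommRingCat.{u}} (ρ : P ⟶ Γ(X, U)) (hρ : Function.Surjective ρ) (G : P) :
    ImmPC m K (hU.basicOpen (ρ G)) (awayθ G ≫ awayρ hU ρ G)
        ((awayρ_surjective hU ρ hρ G).comp (awayθ_surjective G)) ↔
      (haveI := isClosedImmersion_imm hU ρ hρ
       LocPC m ((rho (Scheme.Opens.ι (X := Spec P) (PrimeSpectrum.basicOpen G))).obj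
        ((pushD (imm U ρ)).obj ((rho U.ι).obj K)))) := by
  rw [immPC_comp_iff m K (hU.basicOpen (ρ G)) (awayθ G) (awayθ_surjective G) (pcHom_away_mv G)
    (awayρ hU ρ G) (awayρ_surjective hU ρ hρ G)]
  let U' := X.basicOpen (ρ G)
  let D : (Spec P).Opens := PrimeSpectrum.basicOpen G
  let i := imm U ρ
  haveI : IsClosedImmersion i := isClosedImmersion_imm hU ρ hρ
  haveI := restrict_closed i D
  let W := i ⁻¹ᵁ D
  let a := imm U' (awayρ hU ρ G)
  haveI : IsClosedImmersion a := isClosedImmersion_imm (hU.basicOpen (ρ G)) _ (awayρ_surjective hU ρ hρ G)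
  let e : (W : Scheme.{u}) ≅ (U' : Scheme.{u}) :=
    IsOpenImmersion.isoOfRangeEq (W.ι ≫ U.ι) U'.ι (by
      rw [Scheme.Hom.comp_base, TopCat.coe_comp, Set.range_comp, Scheme.Opens.range_ι,
        Scheme.Opens.range_ι]
      have hW : (W : Set U) = U.ι.base ⁻¹' (U' : Set X) :=
        congrArg SetLike.coe (imm_preimage ρ G)
      rw [hW, Set.image_preimage_eq_inter_range, Scheme.Opens.range_ι]
      exact Set.inter_eq_left.2 (X.basicOpen_le (ρ G)))
  have he : e.hom ≫ U'.ι = W.ι ≫ U.ι := IsOpenImmersion.isoOfRangeEq_hom_fac _ _ _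
  have hfac : (i ∣_ D) ≫ (basicOpenIsoSpecAway G).hom = e.hom ≫ a := by
    rw [← cancel_mono (Spec.map (CommRingCat.ofHom (algebraMap P (Localization.Away G))))]
    have h2 : a ≫ Spec.map (CommRingCat.ofHom (algebraMap P (Localization.Away G))) =
        X.homOfLE (X.basicOpen_le (ρ G)) ≫ i := by
      simp only [a, i, imm, Category.assoc]
      rw [← Spec.map_comp, awayρ_spec, Spec.map_comp, ← Category.assoc,
        Scheme.Opens.toSpecΓ_SpecMap_presheaf_map, Category.assoc]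
    have h3 : e.hom ≫ X.homOfLE (X.basicOpen_le (ρ G)) = W.ι := by
      rw [← cancel_mono U.ι, Category.assoc, Scheme.homOfLE_ι]
      exact he
    rw [Category.assoc, Category.assoc, h2, basicOpenIsoSpecAway_hom_SpecMap, reassoc_of% h3,
      morphismRestrict_ι]
  let K' := (rho U.ι).obj K
  have key : (pushD ((i ∣_ D) ≫ (basicOpenIsoSpecAway G).hom)).obj ((rho W.ι).obj K') ≅
      (pushD a).obj ((rho U'.ι).obj K) :=
    pushDCongr hfac _ ≪≫ (pushD (e.hom ≫ a)).mapIso
      (rhoComp W.ι U.ι (W.ι ≫ U.ι) rfl K ≪≫ (rhoComp e.hom U'.ι (W.ι ≫ U.ι) he K).symm) ≪≫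
      pushDComp e.hom a _ ≪≫ (pushD a).mapIso (pushRhoIso e ((rho U'.ι).obj K))
  constructor
  · intro h
    exact LocPC.of_iso (pushRho i D K').symm ((locPC_push_comp_iff (i ∣_ D)
      (basicOpenIsoSpecAway G).hom (pushPC_iso _) _).1 (LocPC.of_iso key.symm h))
  · intro h
    exact LocPC.of_iso key ((locPC_push_comp_iff (i ∣_ D)
      (basicOpenIsoSpecAway G).hom (pushPC_iso _) _).2 (LocPC.of_iso (pushRho i D K') h))

/-- The test glues. -/
theorem immPC_of_cover (m : ℤ) (K : DCoh.D X) {U : X.Opens} (hU : IsAffineOpen U)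
    {P : CommRingCat.{u}} (ρ : P ⟶ Γ(X, U)) (hρ : Function.Surjective ρ)
    (h : ∀ x : X, x ∈ U → ∃ G : P, x ∈ X.basicOpen (ρ G) ∧
      ImmPC m K (hU.basicOpen (ρ G)) (awayθ G ≫ awayρ hU ρ G)
        ((awayρ_surjective hU ρ hρ G).comp (awayθ_surjective G))) :
    ImmPC m K hU ρ hρ := by
  haveI := isClosedImmersion_imm hU ρ hρ
  refine LocPC.of_local fun y => ?_
  by_cases hy : y ∈ Set.range (imm U ρ).base
  · obtain ⟨u, rfl⟩ := hy
    obtain ⟨G, hG, hP⟩ := h u.1 u.2
    refine ⟨_, Scheme.Opens.ι (X := Spec P) (PrimeSpectrum.basicOpen G), inferInstance,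
      ⟨⟨_, ?_⟩, rfl⟩, (immPC_basicOpen_iff m K hU ρ hρ G).1 hP⟩
    exact (imm_preimage ρ G).ge (show (u : (U : Scheme.{u})) ∈ U.ι ⁻¹ᵁ X.basicOpen (ρ G) from hG)
  · refine ⟨_, (complOpen (imm U ρ)).ι, inferInstance, ⟨⟨y, hy⟩, rfl⟩,
      locPC_of_isZero m _ fun n _ => ?_⟩
    exact ((isZero_restrict_push (imm U ρ) (complOpen _) (fun z hz => hz)
      (DCoh.HD ((rho U.ι).obj K) n)).of_iso
      ((Scheme.Modules.restrictFunctor (complOpen (imm U ρ)).ι).mapIso ((pushHD _ n).app _))).of_iso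
        (hdRhoIso (complOpen (imm U ρ)).ι _ n)

/-- Restricting the test to a basic open. -/
theorem immPC_basicOpen (m : ℤ) (K : DCoh.D X) {U : X.Opens} (hU : IsAffineOpen U)
    {P : CommRingCat.{u}} (ρ : P ⟶ Γ(X, U)) (hρ : Function.Surjective ρ) (G : P)
    (h : ImmPC m K hU ρ hρ) :
    ImmPC m K (hU.basicOpen (ρ G)) (awayθ G ≫ awayρ hU ρ G)
        ((awayρ_surjective hU ρ hρ G).comp (awayθ_surjective G)) :=
  (immPC_basicOpen_iff m K hU ρ hρ G).2 (LocPC.restrict h _)

end Groth.Agent.KSix54
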