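import Groth.Agent.KSix54.Rel.Compose
import Mathlib.AlgebraicGeometry.Morphisms.RingHomProperties

/-! Morphisms pseudo-coherent to a given degree form a property local on both sides. -/

set_option linter.style.haveILetI false
set_option backward.isDefEq.respectTransparency false

universe u

open CategoryTheory CategoryTheory.Limits AlgebraicGeometry

attribute [local instance] HasDerivedCategory.standard

namespace Groth.Agent.KSix54

open Groth.Agent.KFlatLib Groth.Agent.H9Misc.DRingRelPC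

variable {X Y Z U : Scheme.{u}}

/-- Open immersions are pseudo-coherent to every degree. -/
theorem isNPseudoCoherent_openImm (j : U ⟶ X) [IsOpenImmersion j] (s : ℤ) :
    DerSch.IsNPseudoCoherent j s := by
  refine isNPseudoCoherent_iff.2 (isPseudoCoherentRel_of_locally fun x => ?_)
  obtain ⟨W, hW, hxW, -⟩ :=
    exists_isAffineOpen_mem_and_subset (X := U) (x := x) (U := ⊤) trivial
  let a := j.appLE (j ''ᵁ W) W (j.preimage_image_eq W).ge
  haveI : IsIso a := by
    rw [show a = (j.appIso W).hom from (Scheme.Hom.appIso_hom' ..).symm]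
    infer_instance
  let ε := MvPolynomial.isEmptyRingEquiv Γ(X, j ''ᵁ W) (Fin 0)
  let e : CommRingCat.of (MvPolynomial (Fin 0) Γ(X, j ''ᵁ W)) ≅ Γ(X, j ''ᵁ W) := ε.toCommRingCatIso
  have hφ : IsPres j W (j ''ᵁ W) (e.hom ≫ a) :=
    ⟨(j.preimage_image_eq W).ge, (ConcreteCategory.bijective_of_isIso (e.hom ≫ a)).surjective,
      fun r => by
        have : e.hom (MvPolynomial.C r) = r := by
          simp [e, ε]
          exact MvPolynomial.coeff_zero_C r
        rw [CommRingCat.comp_apply, this]⟩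
  refine ⟨W, j ''ᵁ W, hxW, hW.image_of_isOpenImmersion j, hW, 0, _, hφ,
    (immPC_unit_iff_pushPC hW _ hφ.surjective).2 ?_⟩
  haveI : IsIso W.toSpecΓ := hW.isoSpec_hom ▸ inferInstance
  haveI : IsIso (Spec.map (e.hom ≫ a)) := inferInstance
  haveI : IsIso (imm W (e.hom ≫ a)) := inferInstanceAs (IsIso (W.toSpecΓ ≫ Spec.map (e.hom ≫ a)))
  exact pushPC_iso (imm W (e.hom ≫ a)) s

lemma isLE_unitD (X : Scheme.{u}) (n : ℤ) (hn : 0 < n) : IsZero (DCoh.HD (unitD X) n) :=
  (DerivedCategory.isLE_iff (unitD X) 0).1 inferInstance n hn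

theorem isNPseudoCoherent_comp {f : X ⟶ Y} {g : Y ⟶ Z} {r s : ℤ} (hf : DerSch.IsNPseudoCoherent f r)
    (hg : DerSch.IsNPseudoCoherent g s) : DerSch.IsNPseudoCoherent (f ≫ g) (max r s) := by
  haveI := (isPseudoCoherentRel_iff.1 (isNPseudoCoherent_iff.1 hf)).1
  haveI := (isPseudoCoherentRel_iff.1 (isNPseudoCoherent_iff.1 hg)).1
  refine isNPseudoCoherent_iff.2 ?_
  have h := isPseudoCoherentRel_comp (isLE_unitD X) (isNPseudoCoherent_iff.1 hf) hg
  rwa [add_zero] at h

theorem isNPseudoCoherent_of_comp {f : X ⟶ Y} {g : Y ⟶ Z} [LocallyOfFiniteType g] {r : ℤ}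
    (h : DerSch.IsNPseudoCoherent (f ≫ g) r) (hg : DerSch.IsNPseudoCoherent g (r + 1)) :
    DerSch.IsNPseudoCoherent f r := by
  haveI := (isPseudoCoherentRel_iff.1 (isNPseudoCoherent_iff.1 h)).1
  haveI : LocallyOfFiniteType f := locallyOfFiniteType_of_comp f g
  exact isNPseudoCoherent_iff.2 (isPseudoCoherentRel_of_comp (isLE_unitD X)
    (isNPseudoCoherent_iff.1 h) hg (by omega))

theorem isNPseudoCoherent_restrict {f : X ⟶ Y} {s : ℤ} (h : DerSch.IsNPseudoCoherent f s)
    (j : U ⟶ X) [IsOpenImmersion j] : DerSch.IsNPseudoCoherent (j ≫ f) s :=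
  isNPseudoCoherent_iff.2 (isPseudoCoherentRel_of_iso (rhoUnit j)
    (isPseudoCoherentRel_restrict j f (isNPseudoCoherent_iff.1 h)))

theorem isNPseudoCoherent_of_openCover {f : X ⟶ Y} {s : ℤ}
    (h : ∀ x : X, ∃ (U : Scheme.{u}) (j : U ⟶ X) (_ : IsOpenImmersion j),
      x ∈ Set.range j.base ∧ DerSch.IsNPseudoCoherent (j ≫ f) s) :
    DerSch.IsNPseudoCoherent f s := by
  haveI : LocallyOfFiniteType f := by
    choose W j hj hx hW using h
    let 𝒰 : X.OpenCover :=
      { I₀ := X
        X := W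
        f := j
        mem₀ := by
          rw [Scheme.presieve₀_mem_precoverage_iff]
          exact ⟨fun x => ⟨x, hx x⟩, hj⟩ }
    exact (IsZariskiLocalAtSource.iff_of_openCover (P := @LocallyOfFiniteType) 𝒰).2 fun x =>
      (isPseudoCoherentRel_iff.1 (isNPseudoCoherent_iff.1 (hW x))).1
  refine isNPseudoCoherent_iff.2 (isPseudoCoherentRel_of_openCover fun x => ?_)
  obtain ⟨V, j, hj, hx, hV⟩ := h x
  exact ⟨V, j, hj, hx, isPseudoCoherentRel_of_iso (rhoUnit j).symm (isNPseudoCoherent_iff.1 hV)⟩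

/-- Morphisms pseudo-coherent to degree `s`. -/
def NPC (s : ℤ) : MorphismProperty Scheme.{u} := fun _ _ f => DerSch.IsNPseudoCoherent f s

variable (s : ℤ)

instance : (NPC.{u} s).RespectsIso := by
  refine MorphismProperty.RespectsIso.mk _ (fun e f hf => ?_) fun e f hf => ?_
  · exact isNPseudoCoherent_restrict hf e.hom
  · have h := isNPseudoCoherent_comp (g := e.hom) hf (isNPseudoCoherent_openImm e.hom s)
    rwa [max_self] at h

instance : IsZariskiLocalAtSource (NPC.{u} s) := by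
  refine IsZariskiLocalAtSource.mk' (fun {X Y} f U hf => isNPseudoCoherent_restrict hf U.ι) ?_
  intro X Y f ι U hU h
  refine isNPseudoCoherent_of_openCover fun x => ?_
  obtain ⟨i, hi⟩ := TopologicalSpace.Opens.mem_iSup.1
    (show x ∈ iSup U by rw [hU]; trivial)
  exact ⟨_, (U i).ι, inferInstance, ⟨⟨x, hi⟩, rfl⟩, h i⟩

instance : IsZariskiLocalAtTarget (NPC.{u} s) := by
  refine IsZariskiLocalAtTarget.mk' (fun {X Y} f U hf => ?_) ?_
  · refine isNPseudoCoherent_of_comp (g := U.ι) ?_ (isNPseudoCoherent_openImm _ _)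
    rw [morphismRestrict_ι]
    exact isNPseudoCoherent_restrict hf _
  · intro X Y f ι U hU h
    refine isNPseudoCoherent_of_openCover fun x => ?_
    obtain ⟨i, hi⟩ := TopologicalSpace.Opens.mem_iSup.1
      (show f.base x ∈ iSup U by rw [hU]; trivial)
    refine ⟨_, (f ⁻¹ᵁ U i).ι, inferInstance, ⟨⟨x, hi⟩, rfl⟩, ?_⟩
    rw [← morphismRestrict_ι]
    have h' := isNPseudoCoherent_comp (g := (U i).ι) (h i) (isNPseudoCoherent_openImm _ s)
    rwa [max_self] at h'

instance : HasRingHomProperty (NPC.{u} s) (fun f => NPC.{u} s (Spec.map (CommRingCat.ofHom f))) :=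
  HasRingHomProperty.of_isZariskiLocalAtSource_of_isZariskiLocalAtTarget _

end Groth.Agent.KSix54
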