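import Groth.Agent.KSix54.Rel.MorProp

/-! The affine description of morphisms pseudo-coherent to a given degree. -/

set_option linter.style.haveILetI false
set_option backward.isDefEq.respectTransparency false

universe u

open CategoryTheory CategoryTheory.Limits AlgebraicGeometry

attribute [local instance] HasDerivedCategory.standard

namespace Groth.Agent.KSix54

open Groth.Agent.KFlatLib Groth.Agent.H9Misc.DRingRelPC

variable {A B : CommRingCat.{u}} {s : ℤ}

/-- The test for `Spec B ⟶ Spec A` on a presentation of `B` over `A`. -/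
theorem nPC_Spec_iff_of_pres (f : A ⟶ B) {n : ℕ}
    (ψ : CommRingCat.of (MvPolynomial (Fin n) A) ⟶ B) (hψ : Function.Surjective ψ)
    (hC : ∀ a, ψ (MvPolynomial.C a) = f a) :
    DerSch.IsNPseudoCoherent (Spec.map f) s ↔
      DRing.IsPseudoCoherentModule (MvPolynomial (Fin n) A) s
        ((ModuleCat.restrictScalars ψ.hom).obj (ModuleCat.of B B)) := by
  haveI : LocallyOfFiniteType (Spec.map f) := by
    have hsur : f.hom = ψ.hom.comp MvPolynomial.C := RingHom.ext fun a => (hC a).symm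
    refine (HasRingHomProperty.Spec_iff (P := @LocallyOfFiniteType)).2 ?_
    rw [hsur]
    exact RingHom.FiniteType.comp (RingHom.FiniteType.of_surjective ψ.hom hψ)
      (RingHom.finiteType_algebraMap.2 (inferInstanceAs (Algebra.FiniteType A (MvPolynomial (Fin n) A))))
  have hT := isAffineOpen_top (Spec B)
  have hT' := isAffineOpen_top (Spec A)
  let εA := Scheme.ΓSpecIso A
  let εB := Scheme.ΓSpecIso B
  let θ : CommRingCat.of (MvPolynomial (Fin n) Γ(Spec A, ⊤)) ⟶ CommRingCat.of (MvPolynomial (Fin n) A) :=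
    CommRingCat.ofHom (MvPolynomial.map εA.hom.hom)
  have hθ : Function.Bijective θ :=
    ⟨MvPolynomial.map_injective _ (ConcreteCategory.bijective_of_isIso εA.hom).1,
      MvPolynomial.map_surjective _ (ConcreteCategory.bijective_of_isIso εA.hom).2⟩
  have hρ : Function.Surjective (ψ ≫ εB.inv) :=
    (ConcreteCategory.bijective_of_isIso εB.inv).2.comp hψ
  have hΦ : IsPres (Spec.map f) ⊤ ⊤ (θ ≫ ψ ≫ εB.inv) := ⟨le_rfl, hρ.comp hθ.2, fun r => by
    change εB.inv (ψ (MvPolynomial.map εA.hom.hom (MvPolynomial.C r))) = _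
    rw [MvPolynomial.map_C, hC]
    change (εA.hom ≫ f ≫ εB.inv) r = (Spec.map f).appLE ⊤ ⊤ _ r
    rw [← Scheme.ΓSpecIso_naturality_assoc, Iso.hom_inv_id, Category.comp_id]
    congr 2⟩
  have h1 : DerSch.IsNPseudoCoherent (Spec.map f) s ↔
      PCOn (Spec.map f) s (unitD (Spec B)) ⊤ ⊤ := by
    rw [isNPseudoCoherent_iff]
    exact ⟨fun h => (isPseudoCoherentRel_iff.1 h).2 _ _ hT hT' le_rfl,
      fun h => isPseudoCoherentRel_of_locally fun x => ⟨⊤, ⊤, trivial, hT', h⟩⟩
  have h2 : PCOn (Spec.map f) s (unitD (Spec B)) ⊤ ⊤ ↔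
      ImmPC s (unitD (Spec B)) hT (ψ ≫ εB.inv) hρ := by
    rw [← immPC_comp_iff s _ hT θ hθ.2 (PCHom.of_bijective hθ) (ψ ≫ εB.inv) hρ]
    exact ⟨fun h => h.any hT _ hΦ, fun h => ⟨hT, _, _, hΦ, h⟩⟩
  rw [h1, h2, immPC_unit_iff, ← pushPC_spec_iff]
  refine Iff.trans ?_ (pushPC_spec_iff ψ s)
  haveI := IsClosedImmersion.spec_of_surjective ψ hψ
  haveI := IsClosedImmersion.spec_of_surjective (ψ ≫ εB.inv) hρ
  have hs : Spec.map (ψ ≫ εB.inv) = Spec.map εB.inv ≫ Spec.map ψ := Spec.map_comp _ _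
  constructor
  · intro h
    refine (pushPC_iso_comp_iff (Spec.map εB.inv) (Spec.map ψ) s).1 ?_
    convert h using 1 <;> exact hs.symm
  · intro h
    have := (pushPC_iso_comp_iff (Spec.map εB.inv) (Spec.map ψ) s).2 h
    convert this using 1

/-- A surjective presentation exists when the morphism is pseudo-coherent to some degree. -/
theorem exists_pres_of_nPC {f : A ⟶ B} (h : DerSch.IsNPseudoCoherent (Spec.map f) s) :
    ∃ (n : ℕ) (ψ : CommRingCat.of (MvPolynomial (Fin n) A) ⟶ B), Function.Surjective ψ ∧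
      ∀ a, ψ (MvPolynomial.C a) = f a := by
  have hft : f.hom.FiniteType := (HasRingHomProperty.Spec_iff (P := @LocallyOfFiniteType)).1
    (isPseudoCoherentRel_iff.1 (isNPseudoCoherent_iff.1 h)).1
  letI := f.hom.toAlgebra
  haveI : Algebra.FiniteType A B := hft
  obtain ⟨n, α, hα⟩ := exists_presentation A B
  exact ⟨n, CommRingCat.ofHom α.toRingHom, hα, fun a => α.commutes a⟩

end Groth.Agent.KSix54
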