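import Groth.Agent.KSix54.Rel.Affine
import Groth.Agent.PerfMor.Scheme
import Groth.Agent.KRegLib.BaseChange
import Groth.Agent.H9Misc.DRingPCModule
import Groth.Agent.H9Misc.DRingPCDescent

/-! Finite presentation, flat base change and descent for morphisms pseudo-coherent to a given degree. -/

set_option linter.style.haveILetI false
set_option backward.isDefEq.respectTransparency.types false

universe u

open CategoryTheory CategoryTheory.Limits AlgebraicGeometry TensorProduct

attribute [local instance] HasDerivedCategory.standard MvPolynomial.algebraMvPolynomial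

namespace Groth.Agent.KSix54

open Groth.Agent.H9Misc Groth.Agent.H9Misc.DRingRelPC Groth.Agent.H9Misc.DRingTorDescent
  Groth.Agent.H9Misc.DRingRestrict

variable {A A' B B' : Type u} [CommRing A] [CommRing A'] [CommRing B] [CommRing B'] {m : ℤ}

/-- `A → B` gives a morphism of spectra pseudo-coherent to degree `m`. -/
abbrev NQ (m : ℤ) {A B : Type u} [CommRing A] [CommRing B] (f : A →+* B) : Prop :=
  NPC.{u} m (Spec.map (CommRingCat.ofHom f))

theorem nq_iff [Algebra A B] {n : ℕ} (ψ : MvPolynomial (Fin n) A →ₐ[A] B) (hψ : Function.Surjective ψ) :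
    NQ m (algebraMap A B) ↔
      (letI := ψ.toRingHom.toAlgebra
       DRing.IsPseudoCoherentModule (MvPolynomial (Fin n) A) m B) := by
  letI := ψ.toRingHom.toAlgebra
  refine (nPC_Spec_iff_of_pres (CommRingCat.ofHom (algebraMap A B)) (CommRingCat.ofHom ψ.toRingHom)
    hψ fun a => ψ.commutes a).trans ?_
  exact ⟨DRingPC.of_iso ((DerivedCategory.singleFunctor (ModuleCat.{u} _) 0).mapIso (resBIso B)),
    DRingPC.of_iso ((DerivedCategory.singleFunctor (ModuleCat.{u} _) 0).mapIso (resBIso B)).symm⟩

theorem finiteType_of_nq {f : A →+* B} (h : NQ m f) : f.FiniteType :=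
  (HasRingHomProperty.Spec_iff (P := @LocallyOfFiniteType) (φ := CommRingCat.ofHom f)).1
    (isPseudoCoherentRel_iff.1 (isNPseudoCoherent_iff.1 h)).1

theorem nq_finitePresentation [Algebra A B] (h : NQ (-1) (algebraMap A B)) : Algebra.FinitePresentation A B := by
  haveI : Algebra.FiniteType A B := RingHom.finiteType_algebraMap.1 (finiteType_of_nq h)
  obtain ⟨n, ψ, hψ⟩ := exists_presentation A B
  letI := ψ.toRingHom.toAlgebra
  haveI := DRingPC.finitePresentation_of_pc ((nq_iff ψ hψ).1 h)
  refine Algebra.FinitePresentation.of_surjective hψ ?_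
  have hk := Module.FinitePresentation.fg_ker (Algebra.linearMap (MvPolynomial (Fin n) A) B) hψ
  exact hk

theorem nq_of_finitePresentation [Algebra A B] [Algebra.FinitePresentation A B] :
    NQ (-1) (algebraMap A B) := by
  obtain ⟨n, ψ, hψ⟩ := exists_presentation A B
  letI := ψ.toRingHom.toAlgebra
  haveI : Module.FinitePresentation (MvPolynomial (Fin n) A) B :=
    Module.finitePresentation_of_surjective (Algebra.linearMap (MvPolynomial (Fin n) A) B) hψ
      (Algebra.FinitePresentation.ker_fG_of_surjective ψ hψ)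
  exact (nq_iff ψ hψ).2 (DRingPC.pc_neg_one_of_finitePresentation _)

theorem isNPseudoCoherent_neg_one_iff {X Y : Scheme.{u}} (f : X ⟶ Y) :
    DerSch.IsNPseudoCoherent f (-1) ↔ LocallyOfFinitePresentation f := by
  show NPC.{u} (-1) f ↔ _
  rw [HasRingHomProperty.iff_appLE (P := NPC.{u} (-1)),
    HasRingHomProperty.iff_appLE (P := @LocallyOfFinitePresentation)]
  refine forall_congr' fun U => forall_congr' fun V => forall_congr' fun e => ?_
  let φ := (f.appLE U V e).hom
  letI := φ.toAlgebra
  constructor
  · intro h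
    exact nq_finitePresentation (A := Γ(Y, U)) (B := Γ(X, V)) h
  · intro h
    haveI : Algebra.FinitePresentation Γ(Y, U) Γ(X, V) := h
    exact nq_of_finitePresentation (A := Γ(Y, U)) (B := Γ(X, V))

theorem stableSource (m : ℤ) : RingHom.StableUnderCompositionWithLocalizationAwaySource (@NQ.{u} m) := by
  intro R S T _ _ _ _ r _ g h
  haveI : IsOpenImmersion (Spec.map (CommRingCat.ofHom (algebraMap R S))) :=
    IsOpenImmersion.of_isLocalization r
  show DerSch.IsNPseudoCoherent (Spec.map (CommRingCat.ofHom (g.comp (algebraMap R S)))) m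
  rw [CommRingCat.ofHom_comp, Spec.map_comp]
  have h' := isNPseudoCoherent_comp (g := Spec.map (CommRingCat.ofHom (algebraMap R S))) h
    (isNPseudoCoherent_openImm _ m)
  rwa [max_self] at h'

theorem pc_extendScalars_of_tensor {P P' : Type u} [CommRing P] [CommRing P'] [i : Algebra P P']
    (M : ModuleCat.{u} P) (h : DRing.IsPseudoCoherentModule P' m (P' ⊗[P] M)) :
    DRing.IsPseudoCoherent P' m
      (Dual.inD P' ((ModuleCat.extendScalars.{u, u, u} (algebraMap P P')).obj M)) := by
  have he : (algebraMap P P').toAlgebra = i := Algebra.algebra_ext _ _ fun _ => rfl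
  revert h he
  generalize algebraMap P P' = φ
  intro h he
  subst he
  exact h

theorem pc_tensor_of_extendScalars {P P' : Type u} [CommRing P] [CommRing P'] [i : Algebra P P']
    (M : ModuleCat.{u} P) (h : DRing.IsPseudoCoherent P' m
      (Dual.inD P' ((ModuleCat.extendScalars.{u, u, u} (algebraMap P P')).obj M))) :
    DRing.IsPseudoCoherentModule P' m (P' ⊗[P] M) := by
  have he : (algebraMap P P').toAlgebra = i := Algebra.algebra_ext _ _ fun _ => rfl
  revert h he
  generalize algebraMap P P' = φ
  intro h he
  subst he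
  exact h

/-- Flat base change of rings. -/
theorem nq_pushout [Algebra A B] [Algebra A A'] [Module.Flat A A'] [Algebra A' B'] [Algebra B B']
    [Algebra A B'] [IsScalarTower A A' B'] [IsScalarTower A B B'] [Algebra.IsPushout A A' B B']
    (h : NQ m (algebraMap A B)) : NQ m (algebraMap A' B') := by
  haveI : Algebra.FiniteType A B := RingHom.finiteType_algebraMap.1 (finiteType_of_nq h)
  obtain ⟨n, f, hf⟩ := Algebra.FiniteType.iff_quotient_mvPolynomial''.1 (inferInstance : Algebra.FiniteType A B)
  obtain ⟨g, hg, hgf, -⟩ := KRegLib.exists_baseChange_presentation (L := A') (B' := B') f hf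
  let P := MvPolynomial (Fin n) A
  let P' := MvPolynomial (Fin n) A'
  haveI : Algebra.IsPushout A A' P P' := Algebra.IsPushout.symm inferInstance
  haveI : Module.Flat P P' :=
    Module.Flat.of_linearEquiv (Algebra.IsPushout.equiv A P A' _).symm.toLinearEquiv
  letI := f.toRingHom.toAlgebra
  letI := g.toRingHom.toAlgebra
  letI : Algebra P B' := ((algebraMap B B').comp f.toRingHom).toAlgebra
  haveI : IsScalarTower A P B := .of_algebraMap_eq fun a => (f.commutes a).symm
  haveI : IsScalarTower A' P' B' := .of_algebraMap_eq fun a => (g.commutes a).symm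
  haveI : IsScalarTower P B B' := .of_algebraMap_eq fun _ => rfl
  haveI : IsScalarTower P P' B' := .of_algebraMap_eq fun x => (hgf x).symm
  haveI : IsScalarTower A P B' := .of_algebraMap_eq fun a =>
    (IsScalarTower.algebraMap_apply A B B' a).trans (congrArg (algebraMap B B') (f.commutes a).symm)
  haveI : IsScalarTower A P P' := .of_algebraMap_eq fun a => (MvPolynomial.map_C _ a).symm
  haveI : IsScalarTower A P' B' := IsScalarTower.of_algebraMap_eq fun a => by
    rw [IsScalarTower.algebraMap_apply A A' B', IsScalarTower.algebraMap_apply A A' P',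
      ← IsScalarTower.algebraMap_apply A' P' B']
  haveI hP : Algebra.IsPushout P P' B B' :=
    ((Algebra.IsPushout.comp_iff (R := A) (S := P) (R' := A') (S' := P') (T := B) (T' := B')).1
      ‹Algebra.IsPushout A A' B B'›.symm).symm
  refine (nq_iff g hg).2 ?_
  have h1 : DRing.IsPseudoCoherentModule P' m (P' ⊗[P] B) :=
    pc_tensor_of_extendScalars (ModuleCat.of P B)
      (module_baseChange (algebraMap P P') (RingHom.flat_algebraMap_iff.2 inferInstance) m
        (ModuleCat.of P B) ((nq_iff f hf).1 h))
  exact DRingPC.of_iso ((DerivedCategory.singleFunctor (ModuleCat.{u} P') 0).mapIso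
    (Algebra.IsPushout.equiv P P' B B').toLinearEquiv.toModuleIso) h1

/-- Descent of rings. -/
theorem nq_of_pushout [Algebra A B] [Algebra A A'] [Module.FaithfullyFlat A A'] [Algebra A' B'] [Algebra B B']
    [Algebra A B'] [IsScalarTower A A' B'] [IsScalarTower A B B'] [Algebra.IsPushout A A' B B']
    (h : NQ m (algebraMap A' B')) : NQ m (algebraMap A B) := by
  let e := Algebra.IsPushout.equiv A A' B B'
  haveI : Algebra.FiniteType A' B' := RingHom.finiteType_algebraMap.1 (finiteType_of_nq h)
  haveI : Algebra.FiniteType A' (A' ⊗[A] B) := Algebra.FiniteType.equiv inferInstance e.symm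
  haveI : Algebra.FiniteType A B := Algebra.FiniteType.of_finiteType_tensorProduct_of_faithfullyFlat A'
  obtain ⟨n, f, hf⟩ := Algebra.FiniteType.iff_quotient_mvPolynomial''.1 (inferInstance : Algebra.FiniteType A B)
  obtain ⟨g, hg, hgf, -⟩ := KRegLib.exists_baseChange_presentation (L := A') (B' := B') f hf
  let P := MvPolynomial (Fin n) A
  let P' := MvPolynomial (Fin n) A'
  haveI : Module.FaithfullyFlat P P' := by
    haveI : Algebra.IsPushout A A' P P' := Algebra.IsPushout.symm inferInstance
    exact (RingHom.faithfullyFlat_algebraMap_iff).1 (RingHom.FaithfullyFlat.isStableUnderBaseChange A A' P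
      P' ((RingHom.faithfullyFlat_algebraMap_iff).2 inferInstance))
  letI := f.toRingHom.toAlgebra
  letI := g.toRingHom.toAlgebra
  letI : Algebra P B' := ((algebraMap B B').comp f.toRingHom).toAlgebra
  haveI : IsScalarTower A P B := .of_algebraMap_eq fun a => (f.commutes a).symm
  haveI : IsScalarTower A' P' B' := .of_algebraMap_eq fun a => (g.commutes a).symm
  haveI : IsScalarTower P B B' := .of_algebraMap_eq fun _ => rfl
  haveI : IsScalarTower P P' B' := .of_algebraMap_eq fun x => (hgf x).symm
  haveI : IsScalarTower A P B' := .of_algebraMap_eq fun a =>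
    (IsScalarTower.algebraMap_apply A B B' a).trans (congrArg (algebraMap B B') (f.commutes a).symm)
  haveI : IsScalarTower A P P' := .of_algebraMap_eq fun a => (MvPolynomial.map_C _ a).symm
  haveI : IsScalarTower A P' B' := IsScalarTower.of_algebraMap_eq fun a => by
    rw [IsScalarTower.algebraMap_apply A A' B', IsScalarTower.algebraMap_apply A A' P',
      ← IsScalarTower.algebraMap_apply A' P' B']
  haveI hP : Algebra.IsPushout P P' B B' :=
    ((Algebra.IsPushout.comp_iff (R := A) (S := P) (R' := A') (S' := P') (T := B) (T' := B')).1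
      ‹Algebra.IsPushout A A' B B'›.symm).symm
  refine (nq_iff f hf).2 ?_
  let Mc := ModuleCat.of P B
  refine DRingPC.of_iso ((DerivedCategory.singleFunctorIsoCompQ (ModuleCat.{u} P) 0).app Mc).symm
    (DRingPCDescent.pc_descent (R' := P') ((HomologicalComplex.single _ (ComplexShape.up ℤ) 0).obj Mc) m ?_)
  have h2 : DRing.IsPseudoCoherentModule P' m (P' ⊗[P] B) :=
    DRingPC.of_iso ((DerivedCategory.singleFunctor (ModuleCat.{u} P') 0).mapIso
      (Algebra.IsPushout.equiv P P' B B').symm.toLinearEquiv.toModuleIso) ((nq_iff g hg).1 h)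
  have h' := pc_extendScalars_of_tensor Mc h2
  exact DRingPC.of_iso ((DerivedCategory.singleFunctorIsoCompQ (ModuleCat.{u} P') 0).app _ ≪≫
    DerivedCategory.Q.mapIso ((HomologicalComplex.singleMapHomologicalComplex
      (ModuleCat.extendScalars.{u, u, u} (algebraMap P P')) (ComplexShape.up ℤ) 0).app Mc).symm) h'

variable {X S X' S' : Scheme.{u}}

theorem isNPseudoCoherent_baseChange (f : X ⟶ S) (f' : X' ⟶ S') (g' : X' ⟶ X) (g : S' ⟶ S) [Flat g]
    (hc : IsPullback g' f' f g) (hf : DerSch.IsNPseudoCoherent f m) : DerSch.IsNPseudoCoherent f' m :=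
  PerfMor.flatBaseChange (NPC.{u} m) (stableSource m)
    (fun A A' B B' _ _ _ _ _ _ _ _ _ _ _ _ _ h => nq_pushout (A := A) (A' := A') (B := B) (B' := B') h)
    f f' g' g hc hf

theorem isNPseudoCoherent_descend (f : X ⟶ S) (f' : X' ⟶ S') (g' : X' ⟶ X) (g : S' ⟶ S)
    [Flat g] [Surjective g] [QuasiCompact g] (hc : IsPullback g' f' f g)
    (hf : DerSch.IsNPseudoCoherent f' m) : DerSch.IsNPseudoCoherent f m := by
  haveI := PerfMor.descendsAlong_fpqc (NPC.{u} m)
    (fun f f' g' g _ => isNPseudoCoherent_baseChange f f' g' g) (by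
    intro R S R' S' _ _ _ _ _ _ _ _ _ _ _ _ hQ h
    haveI := RingHom.faithfullyFlat_algebraMap_iff.1 hQ
    haveI : Algebra.IsPushout R R' S S' := Algebra.IsPushout.symm inferInstance
    exact nq_of_pushout (A := R) (A' := R') (B := S) (B' := S') h)
  exact MorphismProperty.of_isPullback_of_descendsAlong (P := NPC.{u} m)
    (Q := (@Surjective ⊓ @Flat) ⊓ @QuasiCompact) hc.flip ⟨⟨inferInstance, inferInstance⟩, inferInstance⟩ hf

end Groth.Agent.KSix54
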