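import Groth.Agent.KSix54.PCI.Iso
import Groth.Prelude.Def_DerSch2
import Mathlib.AlgebraicGeometry.Morphisms.ClosedImmersion

/-! The pseudo-coherence test on charts. -/

set_option linter.style.haveILetI false
set_option backward.isDefEq.respectTransparency false

universe u

open CategoryTheory CategoryTheory.Limits AlgebraicGeometry

attribute [local instance] HasDerivedCategory.standard

namespace Groth.Agent.KSix54

open Groth.Agent.KFlatLib Groth.Agent.H9Misc.DRingRelPC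

variable {X Y : Scheme.{u}}

/-- The morphism to `Spec P` given by a ring map into the sections over `U`. -/
noncomputable def imm (U : X.Opens) {P : CommRingCat.{u}} (ρ : P ⟶ Γ(X, U)) :
    (U : Scheme.{u}) ⟶ Spec P :=
  U.toSpecΓ ≫ Spec.map ρ

lemma isClosedImmersion_imm {U : X.Opens} (hU : IsAffineOpen U) {P : CommRingCat.{u}}
    (ρ : P ⟶ Γ(X, U)) (hρ : Function.Surjective ρ) : IsClosedImmersion (imm U ρ) := by
  haveI := IsClosedImmersion.spec_of_surjective ρ hρ
  haveI : IsIso U.toSpecΓ := hU.isoSpec_hom ▸ inferInstance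
  exact inferInstanceAs (IsClosedImmersion (U.toSpecΓ ≫ Spec.map ρ))

lemma imm_comp (U : X.Opens) {P Q : CommRingCat.{u}} (θ : Q ⟶ P) (ρ : P ⟶ Γ(X, U)) :
    imm U (θ ≫ ρ) = imm U ρ ≫ Spec.map θ := by
  simp [imm, Spec.map_comp]

/-- `K|_U` pushed to `Spec P` is `m`-pseudo-coherent. -/
def ImmPC (m : ℤ) (K : DCoh.D X) {U : X.Opens} (hU : IsAffineOpen U) {P : CommRingCat.{u}}
    (ρ : P ⟶ Γ(X, U)) (hρ : Function.Surjective ρ) : Prop :=
  haveI := isClosedImmersion_imm hU ρ hρ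
  LocPC m ((pushD (imm U ρ)).obj ((rho U.ι).obj K))

lemma immPC_comp_iff (m : ℤ) (K : DCoh.D X) {U : X.Opens} (hU : IsAffineOpen U) {P Q : CommRingCat.{u}}
    (θ : Q ⟶ P) (hθ : Function.Surjective θ) (hpc : PCHom θ.hom) (ρ : P ⟶ Γ(X, U))
    (hρ : Function.Surjective ρ) :
    ImmPC m K hU (θ ≫ ρ) (hρ.comp hθ) ↔ ImmPC m K hU ρ hρ := by
  haveI := isClosedImmersion_imm hU ρ hρ
  haveI := IsClosedImmersion.spec_of_surjective θ hθ
  haveI := isClosedImmersion_imm hU (θ ≫ ρ) (hρ.comp hθ)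
  refine Iff.trans ?_ (locPC_push_comp_iff (imm U ρ) (Spec.map θ) (pushPC_spec_of_pcHom θ hpc) _)
  exact ⟨LocPC.of_iso (pushDCongr (imm_comp U θ ρ) _), LocPC.of_iso (pushDCongr (imm_comp U θ ρ) _).symm⟩

lemma surjective_of_comp_eq {A B C : Type*} {f : B → C} {g : A → B} {h : A → C} (e : ∀ a, f (g a) = h a)
    (hh : Function.Surjective h) : Function.Surjective f := fun c => by
  obtain ⟨a, rfl⟩ := hh c
  exact ⟨g a, e a⟩

/-- Two polynomial presentations over the same ring give the same test. -/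
lemma immPC_charts_iff (m : ℤ) (K : DCoh.D X) {U : X.Opens} (hU : IsAffineOpen U)
    {R : CommRingCat.{u}} {n k : ℕ}
    (φ : CommRingCat.of (MvPolynomial (Fin n) R) ⟶ Γ(X, U)) (hφ : Function.Surjective φ)
    (ψ : CommRingCat.of (MvPolynomial (Fin k) R) ⟶ Γ(X, U)) (hψ : Function.Surjective ψ)
    (h : φ.hom.comp MvPolynomial.C = ψ.hom.comp MvPolynomial.C) :
    ImmPC m K hU φ hφ ↔ ImmPC m K hU ψ hψ := by
  choose p hp using fun j : Fin k => hφ (ψ (MvPolynomial.X j))
  choose q hq using fun i : Fin n => hψ (φ (MvPolynomial.X i))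
  let σ := (MvPolynomial.commAlgEquiv R (Fin k) (Fin n)).toRingEquiv.toRingHom
  let θ : CommRingCat.of (MvPolynomial (Fin k) (MvPolynomial (Fin n) R)) ⟶
      CommRingCat.of (MvPolynomial (Fin n) R) :=
    CommRingCat.ofHom (MvPolynomial.eval₂Hom (RingHom.id _) p)
  let θ' : CommRingCat.of (MvPolynomial (Fin k) (MvPolynomial (Fin n) R)) ⟶
      CommRingCat.of (MvPolynomial (Fin k) R) :=
    CommRingCat.ofHom ((MvPolynomial.eval₂Hom (RingHom.id _) q).comp σ)
  have hθ : Function.Surjective θ := fun a => ⟨MvPolynomial.C a, by simp [θ]⟩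
  have hθ' : Function.Surjective θ' := fun a => ⟨(MvPolynomial.commAlgEquiv R (Fin k) (Fin n)).symm
    (MvPolynomial.C a), by simp [θ', σ]⟩
  have hpc' : PCHom θ'.hom :=
    (PCHom.of_bijective (MvPolynomial.commAlgEquiv R (Fin k) (Fin n)).bijective).comp (pcHom_aeval n _ q)
  have hC : ∀ r, φ (MvPolynomial.C r) = ψ (MvPolynomial.C r) := RingHom.congr_fun h
  have e : θ ≫ φ = θ' ≫ ψ := by
    refine CommRingCat.hom_ext (MvPolynomial.ringHom_ext (fun r => ?_) fun j => ?_)
    · refine RingHom.congr_fun (MvPolynomial.ringHom_ext (f := (θ ≫ φ).hom.comp MvPolynomial.C)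
        (g := (θ' ≫ ψ).hom.comp MvPolynomial.C) (fun s => ?_) fun i => ?_) r
      · simp [θ, θ', σ, hC]
      · simp [θ, θ', σ, hq]
    · simp [θ, θ', σ, hp]
  rw [← immPC_comp_iff m K hU θ hθ (pcHom_aeval k _ p) φ hφ,
    ← immPC_comp_iff m K hU θ' hθ' hpc' ψ hψ]
  simp only [e]

/-- The test of `DerSch.ChartPC` in the form used here. -/
lemma chartPC_iff (m : ℤ) (K : DCoh.D X) {U : X.Opens} (hU : IsAffineOpen U) {V : Y.Opens} {n : ℕ}
    (φ : MvPolynomial (Fin n) Γ(Y, V) →+* Γ(X, U)) (hφ : Function.Surjective φ) :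
    DerSch.ChartPC m K U V φ ↔
      ImmPC m K hU (CommRingCat.ofHom φ : CommRingCat.of (MvPolynomial (Fin n) Γ(Y, V)) ⟶ _) hφ := by
  haveI : IsClosedImmersion (DerSch.chartImm U φ) :=
    isClosedImmersion_imm hU (CommRingCat.ofHom φ : CommRingCat.of (MvPolynomial (Fin n) Γ(Y, V)) ⟶ _) hφ
  let e := fun (G : CochainComplex X.Modules ℤ) (eG : DCoh.toD X G ≅ K) =>
    ((pushQ (DerSch.chartImm U φ)).app ((DCoh.restrictCx U).obj G)).symm ≪≫
      (pushD _).mapIso (((rhoQ U.ι).app G).symm ≪≫ (rho U.ι).mapIso eG)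
  constructor
  · intro h
    exact LocPC.of_iso (e _ (repIso K)) ((isPseudoCoherentD_iff m _).1 (h _ ⟨repIso K⟩))
  · rintro h G ⟨eG⟩
    exact (isPseudoCoherentD_iff m _).2 (LocPC.of_iso (e G eG).symm h)

/-- The localized presentation. -/
noncomputable def awayθ {P : CommRingCat.{u}} (G : P) :
    CommRingCat.of (MvPolynomial (Fin 1) P) ⟶ CommRingCat.of (Localization.Away G) :=
  CommRingCat.ofHom (MvPolynomial.eval₂Hom (algebraMap P (Localization.Away G))
    (fun _ : Fin 1 => IsLocalization.Away.invSelf G))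

lemma awayθ_surjective {P : CommRingCat.{u}} (G : P) : Function.Surjective (awayθ G) := fun z => by
  obtain ⟨n, a, h⟩ := IsLocalization.Away.surj (S := Localization.Away G) G z
  refine ⟨MvPolynomial.C a * MvPolynomial.X 0 ^ n, ?_⟩
  simp [awayθ]
  rw [← h, mul_assoc, ← mul_pow, IsLocalization.Away.mul_invSelf, one_pow, mul_one]

end Groth.Agent.KSix54
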