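import Groth.Agent.H9Misc.DRingRelPC2

/-! Base change of pseudo-coherence of a fixed degree to polynomial rings. -/

set_option linter.style.haveILetI false

universe u

open CategoryTheory CategoryTheory.Limits

attribute [local instance] HasDerivedCategory.standard MvPolynomial.algebraMvPolynomial

namespace Groth.Agent.KSix54

open Groth.Agent.H9Misc Groth.Agent.H9Misc.DRingRelPC Groth.Agent.H9Misc.DRingTor Groth.Agent.H9Misc.DRingRestrict

variable {P Q : Type u} [CommRing P] [CommRing Q]

open MvPolynomial in
/-- Base change to a polynomial ring, degree by degree. -/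
lemma pcm_map (φ : P →+* Q) (m : ℤ)
    (hφ : DRing.IsPseudoCoherentModule P m ((ModuleCat.restrictScalars φ).obj (ModuleCat.of Q Q)))
    (k : ℕ) :
    DRing.IsPseudoCoherentModule (MvPolynomial (Fin k) P) m
      ((ModuleCat.restrictScalars (MvPolynomial.map (σ := Fin k) φ)).obj
        (ModuleCat.of (MvPolynomial (Fin k) Q) (MvPolynomial (Fin k) Q))) := by
  letI := φ.toAlgebra
  have hb : Algebra.IsPushout P (MvPolynomial (Fin k) P) Q (MvPolynomial (Fin k) Q) := inferInstance
  have hflat : (MvPolynomial.C : P →+* MvPolynomial (Fin k) P).Flat :=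
    (RingHom.flat_algebraMap_iff (R := P) (S := MvPolynomial (Fin k) P)).2 inferInstance
  have h := module_baseChange (MvPolynomial.C : P →+* MvPolynomial (Fin k) P) hflat m _
    hφ
  let S := MvPolynomial (Fin k) P
  let E := (ModuleCat.extendScalars (MvPolynomial.C : P →+* S)).obj
    ((ModuleCat.restrictScalars φ).obj (ModuleCat.of Q Q))
  let tm : S → Q → E := fun x q =>
    @TensorProduct.tmul P _ _ _ _ _ (Module.compHom S (MvPolynomial.C : P →+* S)) _ x q
  have hbal : ∀ (r : P) (x : S) (q : Q), tm (MvPolynomial.C r * x) q = tm x (r • q) := by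
    letI : Module P S := Module.compHom S (MvPolynomial.C : P →+* S)
    exact fun r x q => (LinearMap.map_smul₂ (TensorProduct.mk P S Q) r x q).trans ((TensorProduct.mk P S Q x).map_smul r q).symm
  let back : TensorProduct P S Q →+ E :=
    TensorProduct.liftAddHom (AddMonoidHom.mk' (fun x => AddMonoidHom.mk' (tm x)
        (fun q q' => @TensorProduct.tmul_add P _ _ _ _ _ (Module.compHom S (MvPolynomial.C : P →+* S)) _ _ _ _))
      (fun x x' => AddMonoidHom.ext fun q =>
        @TensorProduct.add_tmul P _ _ _ _ _ (Module.compHom S (MvPolynomial.C : P →+* S)) _ _ _ _))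
      (fun r x q => by
        show tm (r • x) q = tm x (r • q)
        rw [show r • x = MvPolynomial.C r * x from (MvPolynomial.C_mul').symm]
        exact hbal r x q)
  let fm : S →+ Q →+ TensorProduct P S Q :=
    AddMonoidHom.mk' (fun x => (TensorProduct.mk P S Q x).toAddMonoidHom)
      (fun x x' => by ext q; simp [TensorProduct.add_tmul])
  let fwd : E →+ TensorProduct P S Q :=
    @TensorProduct.liftAddHom P _ S Q (TensorProduct P S Q) _ _ _ (Module.compHom S (MvPolynomial.C : P →+* S)) _
      fm
      (fun r x q => by
        show (MvPolynomial.C r * x) ⊗ₜ[P] q = x ⊗ₜ[P] (r • q)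
        rw [MvPolynomial.C_mul', TensorProduct.smul_tmul])
  have hfb : ∀ z, fwd (back z) = z := fun z => by
    induction z using TensorProduct.induction_on with
    | zero => rw [map_zero, map_zero]
    | add a b ha hb' => rw [map_add, map_add, ha, hb']
    | tmul x q => rfl
  have hbf : ∀ z, back (fwd z) = z := fun z => by
    induction z using TensorProduct.induction_on with
    | zero => exact (congrArg back (map_zero fwd)).trans (map_zero back)
    | add a b ha hb' =>
      refine (congrArg back (map_add fwd a b)).trans ((map_add back _ _).trans ?_)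
      exact congrArg₂ (· + ·) ha hb'
    | tmul x q => rfl
  have hback : ∀ (c : S) (w : TensorProduct P S Q), back (c • w) = c • back w := fun c w => by
    induction w using TensorProduct.induction_on with
    | zero => rw [smul_zero, map_zero, smul_zero]
    | add a b ha hb' => rw [smul_add, map_add, map_add, ha, hb', smul_add]
    | tmul x q => rfl
  have hsmul : ∀ (c : S) (z : E), fwd (c • z) = c • fwd z := fun c z => by
    conv_lhs => rw [← hbf z]
    rw [← hback, hfb]
  let e : E ≃ₗ[S] ((ModuleCat.restrictScalars (MvPolynomial.map (σ := Fin k) φ)).obj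
      (ModuleCat.of (MvPolynomial (Fin k) Q) (MvPolynomial (Fin k) Q))) :=
    { toFun := fun z => hb.out.equiv (fwd z)
      invFun := fun z => back (hb.out.equiv.symm z)
      left_inv := fun z => by
        show back (hb.out.equiv.symm (hb.out.equiv (fwd z))) = z
        rw [LinearEquiv.symm_apply_apply]
        exact hbf z
      right_inv := fun z => by
        show hb.out.equiv (fwd (back (hb.out.equiv.symm z))) = z
        rw [hfb]
        exact hb.out.equiv.apply_symm_apply z
      map_add' := fun x y => (congrArg hb.out.equiv (map_add fwd x y)).trans (map_add hb.out.equiv _ _)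
      map_smul' := fun c x => (congrArg hb.out.equiv (hsmul c x)).trans
        ((hb.out.equiv.map_smul c _).trans (Algebra.smul_def c _)) }
  exact DRingPC.of_iso ((DerivedCategory.singleFunctor (ModuleCat.{u} (MvPolynomial (Fin k) P)) 0).mapIso
    e.toModuleIso) h


end Groth.Agent.KSix54
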