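import Groth.Agent.KSix54.Rel.Unit
import Groth.Agent.KSix54.Rel.RingPC

/-! Relative pseudo-coherence along composites. -/

set_option linter.style.haveILetI false
set_option backward.isDefEq.respectTransparency false

universe u

open CategoryTheory CategoryTheory.Limits AlgebraicGeometry

attribute [local instance] HasDerivedCategory.standard

namespace Groth.Agent.KSix54

open Groth.Agent.KFlatLib Groth.Agent.H9Misc.DRingRelPC

variable {X Y Z : Scheme.{u}} {f : X ⟶ Y} {g : Y ⟶ Z}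

/-- The map of polynomial rings given by a presentation of the base. -/
noncomputable def stackψ {V : Y.Opens} {W : Z.Opens} {n : ℕ} (k : ℕ)
    (ψ : CommRingCat.of (MvPolynomial (Fin n) Γ(Z, W)) ⟶ Γ(Y, V)) :
    CommRingCat.of (MvPolynomial (Fin k) (MvPolynomial (Fin n) Γ(Z, W))) ⟶
      CommRingCat.of (MvPolynomial (Fin k) Γ(Y, V)) :=
  CommRingCat.ofHom (MvPolynomial.map ψ.hom)

lemma stackψ_surjective {V : Y.Opens} {W : Z.Opens} {n : ℕ} (k : ℕ)
    (ψ : CommRingCat.of (MvPolynomial (Fin n) Γ(Z, W)) ⟶ Γ(Y, V)) (hψ : Function.Surjective ψ) :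
    Function.Surjective (stackψ k ψ) :=
  MvPolynomial.map_surjective _ hψ

/-- Testing a composite on a stacked presentation. -/
theorem pcOn_comp_iff {m : ℤ} {K : DCoh.D X} {U : X.Opens} {V : Y.Opens} {W : Z.Opens}
    (hU : IsAffineOpen U) {k n : ℕ}
    (φ : CommRingCat.of (MvPolynomial (Fin k) Γ(Y, V)) ⟶ Γ(X, U)) (hφ : IsPres f U V φ)
    (ψ : CommRingCat.of (MvPolynomial (Fin n) Γ(Z, W)) ⟶ Γ(Y, V)) (hψ : IsPres g V W ψ) :
    PCOn (f ≫ g) m K U W ↔
      (haveI := isClosedImmersion_imm hU φ hφ.surjective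
       haveI := IsClosedImmersion.spec_of_surjective (stackψ k ψ) (stackψ_surjective k ψ hψ.surjective)
       LocPC m ((pushD (Spec.map (stackψ k ψ))).obj ((pushD (imm U φ)).obj ((rho U.ι).obj K)))) := by
  haveI := isClosedImmersion_imm hU φ hφ.surjective
  haveI := IsClosedImmersion.spec_of_surjective (stackψ k ψ) (stackψ_surjective k ψ hψ.surjective)
  obtain ⟨e, -⟩ := surjective_flatten (R := Γ(Z, W)) n k
  let θ : CommRingCat.of (MvPolynomial (Fin (k + n)) Γ(Z, W)) ⟶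
      CommRingCat.of (MvPolynomial (Fin k) (MvPolynomial (Fin n) Γ(Z, W))) :=
    CommRingCat.ofHom e.toRingEquiv.toRingHom
  have hUW : U ≤ (f ≫ g) ⁻¹ᵁ W := hφ.1.trans (f.preimage_mono hψ.1)
  have hs : Function.Surjective (stackψ k ψ ≫ φ) :=
    hφ.surjective.comp (stackψ_surjective k ψ hψ.surjective)
  have hΦ : IsPres (f ≫ g) U W (θ ≫ stackψ k ψ ≫ φ) := ⟨hUW, hs.comp e.surjective, fun r => by
    have h1 : θ (MvPolynomial.C r) = MvPolynomial.C (MvPolynomial.C r) := e.commutes r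
    change φ (stackψ k ψ (θ (MvPolynomial.C r))) = _
    rw [h1]
    change φ (MvPolynomial.map ψ.hom (MvPolynomial.C (MvPolynomial.C r))) = _
    rw [MvPolynomial.map_C, hψ.2.2, hφ.2.2, ← CommRingCat.comp_apply, Scheme.Hom.appLE_comp_appLE]⟩
  haveI := isClosedImmersion_imm hU (stackψ k ψ ≫ φ) hs
  let c : (pushD (imm U (stackψ k ψ ≫ φ))).obj ((rho U.ι).obj K) ≅
      (pushD (Spec.map (stackψ k ψ))).obj ((pushD (imm U φ)).obj ((rho U.ι).obj K)) :=
    pushDCongr (imm_comp U (stackψ k ψ) φ) _ ≪≫ pushDComp _ _ _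
  have hiff := immPC_comp_iff m K hU θ e.surjective (PCHom.of_bijective e.bijective) (stackψ k ψ ≫ φ) hs
  constructor
  · intro h
    exact LocPC.of_iso c (hiff.1 (h.any hU _ hΦ))
  · intro h
    exact ⟨hU, _, _, hΦ, hiff.2 (LocPC.of_iso c.symm h)⟩

/-- The stacked map has pseudo-coherent direct image. -/
theorem pushPC_stack {s : ℤ} (hg : DerSch.IsNPseudoCoherent g s) {V : Y.Opens} {W : Z.Opens}
    (hV : IsAffineOpen V) (hW : IsAffineOpen W) {n : ℕ} (k : ℕ)
    (ψ : CommRingCat.of (MvPolynomial (Fin n) Γ(Z, W)) ⟶ Γ(Y, V)) (hψ : IsPres g V W ψ) :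
    PushPC (Spec.map (stackψ k ψ)) s :=
  (pushPC_spec_iff _ s).2 (pcm_map ψ.hom s ((immPC_unit_iff hV ψ hψ.surjective).1
    (((isPseudoCoherentRel_iff.1 (isNPseudoCoherent_iff.1 hg)).2 V W hV hW hψ.1).any hV ψ hψ)) k)

variable (f g) in
/-- Nested affine neighbourhoods. -/
lemma exists_affine_nhds (x : X) : ∃ (U : X.Opens) (V : Y.Opens) (W : Z.Opens), x ∈ U ∧ IsAffineOpen U ∧
    IsAffineOpen V ∧ IsAffineOpen W ∧ U ≤ f ⁻¹ᵁ V ∧ V ≤ g ⁻¹ᵁ W := by
  obtain ⟨W, hW, hxW, -⟩ :=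
    exists_isAffineOpen_mem_and_subset (X := Z) (x := g.base (f.base x)) (U := ⊤) trivial
  obtain ⟨V, hV, hxV, hVW⟩ :=
    exists_isAffineOpen_mem_and_subset (X := Y) (x := f.base x) (U := g ⁻¹ᵁ W) hxW
  obtain ⟨U, hU, hxU, hUV⟩ :=
    exists_isAffineOpen_mem_and_subset (X := X) (x := x) (U := f ⁻¹ᵁ V) hxV
  exact ⟨U, V, W, hxU, hU, hV, hW, hUV, hVW⟩

variable [LocallyOfFiniteType f] [LocallyOfFiniteType g]

/-- Descent of relative pseudo-coherence to the middle of a composite. -/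
theorem isPseudoCoherentRel_of_comp {a b : ℤ} {K : DCoh.D X} (hb : ∀ n, b < n → IsZero (DCoh.HD K n))
    (hK : DerSch.IsPseudoCoherentRel (f ≫ g) a K) {s : ℤ} (hg : DerSch.IsNPseudoCoherent g s)
    (hs : s + b ≤ a + 1) : DerSch.IsPseudoCoherentRel f a K := by
  refine isPseudoCoherentRel_of_locally fun x => ?_
  obtain ⟨U, V, W, hxU, hU, hV, hW, hUV, hVW⟩ := exists_affine_nhds f g x
  obtain ⟨k, φ, hφ⟩ := exists_isPres (f := f) hU hV hUV
  obtain ⟨n, ψ, hψ⟩ := exists_isPres (f := g) hV hW hVW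
  haveI := isClosedImmersion_imm hU φ hφ.surjective
  haveI := IsClosedImmersion.spec_of_surjective (stackψ k ψ) (stackψ_surjective k ψ hψ.surjective)
  refine ⟨U, V, hxU, hV, hU, k, φ, hφ, ?_⟩
  refine locPC_of_pushD (Spec.map (stackψ k ψ)) (pushPC_stack hg hV hW k ψ hψ)
    (fun j hj => isZero_HD_push (imm U φ) (isZero_HD_rho U.ι (hb j hj))) hs ?_
  exact (pcOn_comp_iff hU φ hφ ψ hψ).1
    ((isPseudoCoherentRel_iff.1 hK).2 U W hU hW (hUV.trans (f.preimage_mono hVW)))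

/-- Relative pseudo-coherence along a composite. -/
theorem isPseudoCoherentRel_comp {a b : ℤ} {K : DCoh.D X} (hb : ∀ n, b < n → IsZero (DCoh.HD K n))
    (hK : DerSch.IsPseudoCoherentRel f a K) {s : ℤ} (hg : DerSch.IsNPseudoCoherent g s) :
    DerSch.IsPseudoCoherentRel (f ≫ g) (max a (s + b)) K := by
  refine isPseudoCoherentRel_of_locally fun x => ?_
  obtain ⟨U, V, W, hxU, hU, hV, hW, hUV, hVW⟩ := exists_affine_nhds f g x
  obtain ⟨k, φ, hφ⟩ := exists_isPres (f := f) hU hV hUV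
  obtain ⟨n, ψ, hψ⟩ := exists_isPres (f := g) hV hW hVW
  haveI := isClosedImmersion_imm hU φ hφ.surjective
  haveI := IsClosedImmersion.spec_of_surjective (stackψ k ψ) (stackψ_surjective k ψ hψ.surjective)
  refine ⟨U, W, hxU, hW, (pcOn_comp_iff hU φ hφ ψ hψ).2 ?_⟩
  exact locPC_pushD (Spec.map (stackψ k ψ)) (pushPC_stack hg hV hW k ψ hψ)
    (((isPseudoCoherentRel_iff.1 hK).2 U V hU hV hUV).any hU φ hφ)
    (fun j hj => isZero_HD_push (imm U φ) (isZero_HD_rho U.ι (hb j hj)))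

end Groth.Agent.KSix54
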