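import Groth.Agent.KSix54.Rel.Restrict

/-! Gluing, triangles and bounds for relative pseudo-coherence. -/

set_option linter.style.haveILetI false
set_option backward.isDefEq.respectTransparency false

universe u

open CategoryTheory CategoryTheory.Limits AlgebraicGeometry CategoryTheory.Pretriangulated

attribute [local instance] HasDerivedCategory.standard

namespace Groth.Agent.KSix54

open Groth.Agent.KFlatLib

variable {X Y : Scheme.{u}} {f : X ⟶ Y} {m : ℤ}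

theorem isPseudoCoherentRel_of_iso {K L : DCoh.D X} (e : K ≅ L)
    (h : DerSch.IsPseudoCoherentRel f m K) : DerSch.IsPseudoCoherentRel f m L :=
  isPseudoCoherentRel_iff.2 ⟨(isPseudoCoherentRel_iff.1 h).1, fun U V hU hV hUV =>
    pcOn_congr_iso f e ((isPseudoCoherentRel_iff.1 h).2 U V hU hV hUV)⟩

theorem isPseudoCoherentRel_mono {m' : ℤ} (hm : m ≤ m') {K : DCoh.D X}
    (h : DerSch.IsPseudoCoherentRel f m K) : DerSch.IsPseudoCoherentRel f m' K := by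
  refine isPseudoCoherentRel_iff.2 ⟨(isPseudoCoherentRel_iff.1 h).1, fun U V hU hV hUV => ?_⟩
  obtain ⟨hU, n, φ, hφ, hP⟩ := (isPseudoCoherentRel_iff.1 h).2 U V hU hV hUV
  exact ⟨hU, n, φ, hφ, LocPC.mono hP hm⟩

/-- Relative pseudo-coherence glues. -/
theorem isPseudoCoherentRel_of_openCover [LocallyOfFiniteType f] {K : DCoh.D X}
    (h : ∀ x : X, ∃ (U : Scheme.{u}) (j : U ⟶ X) (_ : IsOpenImmersion j),
      x ∈ Set.range j.base ∧ DerSch.IsPseudoCoherentRel (j ≫ f) m ((rho j).obj K)) :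
    DerSch.IsPseudoCoherentRel f m K := by
  refine isPseudoCoherentRel_of_locally fun x => ?_
  obtain ⟨U, j, _, ⟨u', rfl⟩, hj⟩ := h x
  obtain ⟨V, hV, hxV, -⟩ :=
    exists_isAffineOpen_mem_and_subset (X := Y) (x := f.base (j.base u')) (U := ⊤) trivial
  obtain ⟨W, hW, hxW, hWV⟩ :=
    exists_isAffineOpen_mem_and_subset (X := U) (x := u') (U := (j ≫ f) ⁻¹ᵁ V) hxV
  exact ⟨j ''ᵁ W, V, ⟨u', hxW, rfl⟩, hV,
    (pcOn_image_iff j f K).1 ((isPseudoCoherentRel_iff.1 hj).2 W V hW hV hWV)⟩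

/-- Two out of three. -/
theorem isPseudoCoherentRel_triangle [LocallyOfFiniteType f] (T : Triangle (DCoh.D X))
    (hT : T ∈ distinguishedTriangles) :
    (DerSch.IsPseudoCoherentRel f (m + 1) T.obj₁ → DerSch.IsPseudoCoherentRel f m T.obj₂ →
      DerSch.IsPseudoCoherentRel f m T.obj₃) ∧
    (DerSch.IsPseudoCoherentRel f m T.obj₁ → DerSch.IsPseudoCoherentRel f m T.obj₃ →
      DerSch.IsPseudoCoherentRel f m T.obj₂) ∧
    (DerSch.IsPseudoCoherentRel f (m + 1) T.obj₂ → DerSch.IsPseudoCoherentRel f m T.obj₃ →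
      DerSch.IsPseudoCoherentRel f (m + 1) T.obj₁) := by
  have key : ∀ {U : X.Opens} {P : CommRingCat.{u}} (ρ : P ⟶ Γ(X, U)) (hU : IsAffineOpen U)
      (hρ : Function.Surjective ρ),
      (ImmPC (m + 1) T.obj₁ hU ρ hρ → ImmPC m T.obj₂ hU ρ hρ → ImmPC m T.obj₃ hU ρ hρ) ∧
      (ImmPC m T.obj₁ hU ρ hρ → ImmPC m T.obj₃ hU ρ hρ → ImmPC m T.obj₂ hU ρ hρ) ∧
      (ImmPC (m + 1) T.obj₂ hU ρ hρ → ImmPC m T.obj₃ hU ρ hρ → ImmPC (m + 1) T.obj₁ hU ρ hρ) :=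
    fun {U} _ ρ hU hρ =>
      haveI := isClosedImmersion_imm hU ρ hρ
      locPC_two_of_three m _
        ((pushD (imm U ρ)).map_distinguished _ ((rho U.ι).map_distinguished T hT))
  refine ⟨fun h₁ h₂ => ?_, fun h₁ h₂ => ?_, fun h₁ h₂ => ?_⟩ <;>
    refine isPseudoCoherentRel_iff.2 ⟨inferInstance, fun U V hU hV hUV => ?_⟩ <;>
    obtain ⟨hU, n, φ, hφ, hP⟩ := (isPseudoCoherentRel_iff.1 h₁).2 U V hU hV hUV <;>
    have hQ := ((isPseudoCoherentRel_iff.1 h₂).2 U V hU hV hUV).any hU φ hφ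
  · exact ⟨hU, n, φ, hφ, (key φ hU _).1 hP hQ⟩
  · exact ⟨hU, n, φ, hφ, (key φ hU _).2.1 hP hQ⟩
  · exact ⟨hU, n, φ, hφ, (key φ hU _).2.2 hP hQ⟩

/-- Cohomology is bounded above near every point. -/
theorem exists_bound_nhd_rel {K : DCoh.D X} (h : DerSch.IsPseudoCoherentRel f m K) (x : X) :
    ∃ (W : X.Opens) (b : ℤ), x ∈ W ∧ ∀ n, b < n → IsZero ((DCoh.HD K n).restrict W.ι) := by
  obtain ⟨hf, h⟩ := isPseudoCoherentRel_iff.1 h
  obtain ⟨V, hV, hxV, -⟩ :=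
    exists_isAffineOpen_mem_and_subset (X := Y) (x := f.base x) (U := ⊤) trivial
  obtain ⟨U, hU', hxU, hUV⟩ :=
    exists_isAffineOpen_mem_and_subset (X := X) (x := x) (U := f ⁻¹ᵁ V) hxV
  obtain ⟨hU, n, φ, hφ, hP⟩ := h U V hU' hV hUV
  haveI := isClosedImmersion_imm hU φ hφ.surjective
  obtain ⟨D, b, hxD, hb⟩ := exists_bound_nhd hP ((imm U φ).base ⟨x, hxU⟩)
  haveI := restrict_closed (imm U φ) D
  let W := (imm U φ) ⁻¹ᵁ D
  refine ⟨(W.ι ≫ U.ι).opensRange, b, ⟨⟨⟨x, hxU⟩, hxD⟩, rfl⟩, fun i hi => ?_⟩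
  have h1 : IsZero (DCoh.HD ((rho W.ι).obj ((rho U.ι).obj K)) i) :=
    isZero_of_push ((imm U φ) ∣_ D) (((hb i hi).of_iso ((DerivedCategory.homologyFunctor _ i).mapIso
      (pushRho (imm U φ) D _).symm)).of_iso ((pushHD ((imm U φ) ∣_ D) i).app _).symm)
  have h2 : IsZero (DCoh.HD ((rho (rangeHom (W.ι ≫ U.ι))).obj ((rho (W.ι ≫ U.ι)).obj K)) i) :=
    isZero_HD_rho _ (h1.of_iso ((DerivedCategory.homologyFunctor _ i).mapIso
      (rhoComp W.ι U.ι _ rfl K).symm))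
  exact h2.of_iso ((hdRhoIso _ K i).symm ≪≫ (DerivedCategory.homologyFunctor _ i).mapIso
    (rhoComp (rangeHom (W.ι ≫ U.ι)) (W.ι ≫ U.ι) _ (rangeHom_fac _) K).symm)

/-- On a quasi-compact source the cohomology is bounded above. -/
theorem exists_isLE_of_rel [CompactSpace X] {K : DCoh.D X}
    (h : DerSch.IsPseudoCoherentRel f m K) : ∃ b : ℤ, K.IsLE b := by
  choose W b hxW hW using exists_bound_nhd_rel h
  obtain ⟨s, hs⟩ := isCompact_univ.elim_finite_subcover (fun x : X => ((W x : X.Opens) : Set X))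
    (fun x => (W x).isOpen) (fun x _ => Set.mem_iUnion.2 ⟨x, hxW x⟩)
  classical
  obtain ⟨B, hB⟩ := (s.image b).bddAbove
  refine ⟨B, (DerivedCategory.isLE_iff K B).2 fun n hn => isZero_of_stalkAb fun y => ?_⟩
  obtain ⟨i, hi, hy⟩ := Set.mem_iUnion₂.1 (hs (Set.mem_univ y))
  have h1 := hW i n ((hB (Finset.mem_coe.2 (Finset.mem_image_of_mem b hi))).trans_lt hn)
  exact ((stalkAb (X := (W i : Scheme.{u})) ⟨y, hy⟩).map_isZero h1).of_iso
    (((Scheme.Modules.restrictStalkNatIso (W i).ι ⟨y, hy⟩).app (DCoh.HD K n)).symm)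

end Groth.Agent.KSix54
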