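import Groth.Agent.KSix54.Rel.Ops
import Groth.Agent.KFlatLib.Scheme.PCQCoh
import Groth.Agent.KZ.ClosedDev

/-! Relative pseudo-coherence gives quasi-coherent cohomology. -/

set_option linter.style.haveILetI false
set_option backward.isDefEq.respectTransparency false

universe u

open CategoryTheory CategoryTheory.Limits AlgebraicGeometry

attribute [local instance] HasDerivedCategory.standard

namespace Groth.Agent.KSix54

open Groth.Agent.KFlatLib

variable {X Y : Scheme.{u}}

lemma isQCoh_of_push (i : X ⟶ Y) [IsClosedImmersion i] {M : X.Modules}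
    (h : Coh.IsQCoh ((Scheme.Modules.pushforward i).obj M)) : Coh.IsQCoh M := by
  haveI := KZ.ClosedDev.isIso_counit i h
  exact KFlatLib.isQCoh_of_iso (asIso ((Scheme.Modules.pullbackPushforwardAdjunction i).counit.app M))
    (QCoh.isQCoh_pullback i h)

/-- Cohomology in degrees above the level is quasi-coherent. -/
theorem isQCoh_HD_of_rel {f : X ⟶ Y} {m : ℤ} {K : DCoh.D X}
    (h : DerSch.IsPseudoCoherentRel f m K) (k : ℤ) (hk : m < k) : Coh.IsQCoh (DCoh.HD K k) := by
  obtain ⟨hf, h⟩ := isPseudoCoherentRel_iff.1 h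
  have hloc : ∀ x : X, ∃ W : X.Opens, x ∈ W ∧ Coh.IsQCoh ((DCoh.HD K k).restrict W.ι) := fun x => by
    obtain ⟨V, hV, hxV, -⟩ :=
      exists_isAffineOpen_mem_and_subset (X := Y) (x := f.base x) (U := ⊤) trivial
    obtain ⟨U, hU', hxU, hUV⟩ :=
      exists_isAffineOpen_mem_and_subset (X := X) (x := x) (U := f ⁻¹ᵁ V) hxV
    obtain ⟨hU, n, φ, hφ, hP⟩ := h U V hU' hV hUV
    haveI := isClosedImmersion_imm hU φ hφ.surjective
    refine ⟨U, hxU, KFlatLib.isQCoh_of_iso (hdRhoIso U.ι K k) (isQCoh_of_push (imm U φ) ?_)⟩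
    exact KFlatLib.isQCoh_of_iso ((pushHD (imm U φ) k).app _)
      (isQCoh_HD_of_pseudoCoherent ((isPseudoCoherentD_iff m _).2 hP) k hk)
  choose W hxW hW using hloc
  exact QCoh.isQCoh_of_isOpenCover W (TopologicalSpace.IsOpenCover.mk (top_le_iff.1 fun x _ =>
    TopologicalSpace.Opens.mem_iSup.2 ⟨x, hxW x⟩)) hW

theorem isQCohD_of_relAll {f : X ⟶ Y} {K : DCoh.D X} (h : DerSch.IsPseudoCoherentRelAll f K) :
    DCoh.IsQCohD K := fun k => isQCoh_HD_of_rel (h (k - 1)) k (by omega)

end Groth.Agent.KSix54
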