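import Groth.Agent.KSix54.Rel.Basic

/-! Relative pseudo-coherence and open immersions on the source. -/

set_option linter.style.haveILetI false
set_option backward.isDefEq.respectTransparency false

universe u

open CategoryTheory CategoryTheory.Limits AlgebraicGeometry

attribute [local instance] HasDerivedCategory.standard

namespace Groth.Agent.KSix54

open Groth.Agent.KFlatLib

variable {X Y U : Scheme.{u}} (j : U ⟶ X) [IsOpenImmersion j] {m : ℤ}

lemma isoImage_toSpecΓ {W : U.Opens} (hW : IsAffineOpen W) :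
    (j.isoImage W).hom ≫ (j ''ᵁ W).toSpecΓ =
      W.toSpecΓ ≫ Spec.map (j.appLE (j ''ᵁ W) W (j.preimage_image_eq W).ge) := by
  have hW' := hW.image_of_isOpenImmersion j
  rw [← cancel_mono hW'.fromSpec, Category.assoc, Category.assoc, hW'.toSpecΓ_fromSpec,
    IsAffineOpen.SpecMap_appLE_fromSpec j hW' hW, ← Category.assoc, hW.toSpecΓ_fromSpec,
    Scheme.Hom.isoImage_hom_ι]

lemma immPC_image_iff (K : DCoh.D X) {W : U.Opens} (hW : IsAffineOpen W) {P : CommRingCat.{u}}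
    (ρ' : P ⟶ Γ(X, j ''ᵁ W)) (hρ' : Function.Surjective ρ')
    (hρ : Function.Surjective (ρ' ≫ j.appLE (j ''ᵁ W) W (j.preimage_image_eq W).ge)) :
    ImmPC m ((rho j).obj K) hW (ρ' ≫ j.appLE (j ''ᵁ W) W (j.preimage_image_eq W).ge) hρ ↔
      ImmPC m K (hW.image_of_isOpenImmersion j) ρ' hρ' := by
  let a := imm (j ''ᵁ W) ρ'
  haveI : IsClosedImmersion a := isClosedImmersion_imm (hW.image_of_isOpenImmersion j) ρ' hρ'
  haveI := isClosedImmersion_imm hW _ hρ
  have hfac : imm W (ρ' ≫ j.appLE (j ''ᵁ W) W (j.preimage_image_eq W).ge) =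
      (j.isoImage W).hom ≫ a := by
    simp only [a, imm]
    rw [Spec.map_comp, ← Category.assoc, ← isoImage_toSpecΓ j hW, Category.assoc]
  let e := pushDCongr hfac ((rho W.ι).obj ((rho j).obj K)) ≪≫
    (pushD ((j.isoImage W).hom ≫ a)).mapIso
      (rhoComp W.ι j (W.ι ≫ j) rfl K ≪≫
        (rhoComp (j.isoImage W).hom (j ''ᵁ W).ι (W.ι ≫ j) (Scheme.Hom.isoImage_hom_ι j W) K).symm) ≪≫
    pushDComp (j.isoImage W).hom a _ ≪≫ (pushD a).mapIso (pushRhoIso (j.isoImage W) _)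
  exact ⟨LocPC.of_iso e, LocPC.of_iso e.symm⟩

variable (f : X ⟶ Y)

lemma pcOn_image_iff (K : DCoh.D X) {W : U.Opens} {V : Y.Opens} :
    PCOn (j ≫ f) m ((rho j).obj K) W V ↔ PCOn f m K (j ''ᵁ W) V := by
  have hc : ∀ (h : j ''ᵁ W ≤ f ⁻¹ᵁ V) (h' : W ≤ (j ≫ f) ⁻¹ᵁ V) (s : Γ(Y, V)),
      j.appLE (j ''ᵁ W) W (j.preimage_image_eq W).ge (f.appLE V (j ''ᵁ W) h s) =
        (j ≫ f).appLE V W h' s := fun h h' s => by
    rw [← CommRingCat.comp_apply, Scheme.Hom.appLE_comp_appLE]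
  have hbij : Function.Bijective (j.appLE (j ''ᵁ W) W (j.preimage_image_eq W).ge) := by
    rw [← Scheme.Hom.appIso_hom']
    exact ConcreteCategory.bijective_of_isIso _
  constructor
  · rintro ⟨hW, n, φ, hφ, hP⟩
    have hW' : IsAffineOpen (j ''ᵁ W) := hW.image_of_isOpenImmersion j
    have hle : j ''ᵁ W ≤ f ⁻¹ᵁ V := by
      rintro _ ⟨w, hw, rfl⟩
      exact hφ.1 hw
    let φ' : CommRingCat.of (MvPolynomial (Fin n) Γ(Y, V)) ⟶ Γ(X, j ''ᵁ W) := φ ≫ (j.appIso W).inv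
    have hφφ' : φ' ≫ j.appLE (j ''ᵁ W) W (j.preimage_image_eq W).ge = φ := by
      simp [φ', ← Scheme.Hom.appIso_hom']
    have hsur : Function.Surjective φ' :=
      (ConcreteCategory.bijective_of_isIso (j.appIso W).inv).surjective.comp hφ.surjective
    refine ⟨hW', n, φ', ⟨hle, hsur, fun s => hbij.injective ?_⟩,
      (immPC_image_iff j K hW φ' hsur (by rw [hφφ']; exact hφ.surjective)).1 (by simpa only [hφφ'] using hP)⟩
    rw [← CommRingCat.comp_apply, hφφ', hφ.2.2, hc hle hφ.1]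
  · rintro ⟨hW', n, φ, hφ, hP⟩
    have hle : W ≤ (j ≫ f) ⁻¹ᵁ V := fun w hw => hφ.1 ⟨w, hw, rfl⟩
    have hW : IsAffineOpen W := (j.isAffineOpen_iff_of_isOpenImmersion).1 hW'
    have hsur := hbij.surjective.comp hφ.surjective
    exact ⟨hW, n, φ ≫ j.appLE (j ''ᵁ W) W (j.preimage_image_eq W).ge, ⟨hle, hsur, fun s => by
      rw [CommRingCat.comp_apply, hφ.2.2, hc hφ.1 hle]⟩, (immPC_image_iff j K hW φ hφ.surjective hsur).2 hP⟩

lemma pcOn_congr_iso {K L : DCoh.D X} (e : K ≅ L) {W : X.Opens} {V : Y.Opens}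
    (h : PCOn f m K W V) : PCOn f m L W V := by
  obtain ⟨hW, n, φ, hφ, hP⟩ := h
  haveI := isClosedImmersion_imm hW φ hφ.surjective
  exact ⟨hW, n, φ, hφ, LocPC.of_iso ((pushD (imm W φ)).mapIso ((rho W.ι).mapIso e)) hP⟩

/-- Relative pseudo-coherence restricts to opens. -/
theorem isPseudoCoherentRel_restrict {K : DCoh.D X} (h : DerSch.IsPseudoCoherentRel f m K) :
    DerSch.IsPseudoCoherentRel (j ≫ f) m ((rho j).obj K) := by
  obtain ⟨hf, h⟩ := isPseudoCoherentRel_iff.1 h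
  haveI := hf
  refine isPseudoCoherentRel_iff.2 ⟨inferInstance, fun W V hW hV hWV => ?_⟩
  exact (pcOn_image_iff j f K).2 (h _ V (hW.image_of_isOpenImmersion j) hV
    (by rintro _ ⟨w, hw, rfl⟩; exact hWV hw))

end Groth.Agent.KSix54
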