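import Groth.Agent.KSix54.Rel.Ops
import Groth.Agent.KSix54.AmpLocal
import Groth.Agent.KSix54.FlatFP
import Groth.Agent.KSix54.Rel.QCohRel
import Groth.Agent.QCoh.FlatOver
import Groth.Agent.H9Misc.DRingPCModule

/-! The chart test for a module placed in degree zero. -/

set_option linter.style.haveILetI false
set_option backward.isDefEq.respectTransparency false

universe u

open CategoryTheory CategoryTheory.Limits AlgebraicGeometry

attribute [local instance] HasDerivedCategory.standard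

namespace Groth.Agent.KSix54

open Groth.Agent.KFlatLib

variable {X Y : Scheme.{u}}

/-- The test on a chart, read on the spectrum of the sections. -/
theorem immPC_iff_spec (m : ℤ) (K : DCoh.D X) {U : X.Opens} (hU : IsAffineOpen U) {P : CommRingCat.{u}}
    (ρ : P ⟶ Γ(X, U)) (hρ : Function.Surjective ρ) :
    ImmPC m K hU ρ hρ ↔
      (haveI := IsClosedImmersion.spec_of_surjective ρ hρ
       LocPC m ((pushD (Spec.map ρ)).obj ((rho hU.fromSpec).obj K))) := by
  haveI := IsClosedImmersion.spec_of_surjective ρ hρ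
  haveI := isClosedImmersion_imm hU ρ hρ
  have hfac : imm U ρ = hU.isoSpec.hom ≫ Spec.map ρ := by rw [imm, hU.isoSpec_hom]
  have hcomp : hU.isoSpec.hom ≫ hU.fromSpec = U.ι := by
    rw [hU.isoSpec_hom, hU.toSpecΓ_fromSpec]
  let e : (pushD (imm U ρ)).obj ((rho U.ι).obj K) ≅ (pushD (Spec.map ρ)).obj ((rho hU.fromSpec).obj K) :=
    pushDCongr hfac _ ≪≫ pushDComp hU.isoSpec.hom (Spec.map ρ) _ ≪≫
      (pushD (Spec.map ρ)).mapIso ((pushD hU.isoSpec.hom).mapIso
        (rhoComp hU.isoSpec.hom hU.fromSpec U.ι hcomp K).symm ≪≫ pushRhoIso hU.isoSpec _)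
  exact ⟨LocPC.of_iso e, LocPC.of_iso e.symm⟩

/-- The sections over an affine open, as a module over their ring. -/
noncomputable def secMod (M : X.Modules) {U : X.Opens} (hU : IsAffineOpen U) : ModuleCat.{u} Γ(X, U) :=
  (moduleSpecΓFunctor (R := Γ(X, U))).obj (M.restrict hU.fromSpec)

/-- For a quasi-coherent module the test is pseudo-coherence of the sections. -/
theorem immPC_single_iff {M : X.Modules} (hM : Coh.IsQCoh M) (m : ℤ) {U : X.Opens} (hU : IsAffineOpen U)
    {P : CommRingCat.{u}} (ρ : P ⟶ Γ(X, U)) (hρ : Function.Surjective ρ) :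
    ImmPC m (DCoh.inD X M) hU ρ hρ ↔
      DRing.IsPseudoCoherentModule (P : Type u) m ((ModuleCat.restrictScalars ρ.hom).obj (secMod M hU)) := by
  haveI := IsClosedImmersion.spec_of_surjective ρ hρ
  haveI : IsIso (Scheme.Modules.fromTildeΓ (M.restrict hU.fromSpec)) :=
    (isQuasicoherent_iff_isIso_fromTildeΓ _).1 (QCoh.isQCoh_restrict hU.fromSpec hM)
  let t : (tilde.functor Γ(X, U)).obj (secMod M hU) ≅ M.restrict hU.fromSpec :=
    asIso (Scheme.Modules.fromTildeΓ (M.restrict hU.fromSpec))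
  let N := (ModuleCat.restrictScalars ρ.hom).obj (secMod M hU)
  let e : (pushD (Spec.map ρ)).obj ((rho hU.fromSpec).obj (DCoh.inD X M)) ≅
      (DCoh.tildeD P).obj (Dual.inD (P : Type u) N) :=
    (pushD (Spec.map ρ)).mapIso (rhoSingle hU.fromSpec M) ≪≫ pushSingle (Spec.map ρ) _ ≪≫
      (DerivedCategory.singleFunctor _ 0).mapIso
        ((Scheme.Modules.pushforward (Spec.map ρ)).mapIso t.symm ≪≫ (pushTildeIso ρ).app _) ≪≫
      (((tilde.functor P).mapDerivedCategorySingleFunctor 0).app N).symm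
  rw [immPC_iff_spec m _ hU ρ hρ]
  unfold DRing.IsPseudoCoherentModule
  rw [← pseudoCoherent_tildeD_iff]
  exact ⟨LocPC.of_iso e, LocPC.of_iso e.symm⟩

/-- The sections of a module flat over the base are flat over the ring of the base. -/
theorem flat_secMod {f : X ⟶ Y} {M : X.Modules} (hM : Coh.IsQCoh M) (hfl : FlatMod.IsFlatOver f M)
    {U : X.Opens} {V : Y.Opens} (hU : IsAffineOpen U) (hV : IsAffineOpen V) (hUV : U ≤ f ⁻¹ᵁ V) :
    Module.Flat Γ(Y, V) ((ModuleCat.restrictScalars (f.appLE V U hUV).hom).obj (secMod M hU)) := by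
  let j := hU.fromSpec
  have hT : (⊤ : (Spec Γ(X, U)).Opens) ≤ (j ≫ f) ⁻¹ᵁ V := by
    rw [Scheme.Hom.comp_preimage, ← hU.fromSpec_preimage_self]
    exact j.preimage_mono hUV
  have hfl' : ∀ x ∈ (⊤ : (Spec Γ(X, U)).Opens), FlatMod.IsFlatOverAt (j ≫ f) (M.restrict j) x := fun x _ => by
    refine (torAmplitudeAt_single_iff (j ≫ f) (M.restrict j) x).1 ?_
    refine torAmplitudeAt_congr (j ≫ f) ?_
      ((torAmplitudeAt_restrict_iff j f 0 0 _ x).2 ((torAmplitudeAt_single_iff f M (j.base x)).2 (hfl _)))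
    exact DerivedCategory.Q.mapIso ((HomologicalComplex.singleMapHomologicalComplex
      (Scheme.Modules.restrictFunctor j) (ComplexShape.up ℤ) 0).app M)
  have h : letI : Module Γ(Y, V) Γ(M.restrict j, ⊤) := Module.compHom _ ((j ≫ f).appLE V ⊤ hT).hom
      Module.Flat Γ(Y, V) Γ(M.restrict j, ⊤) :=
    (QCoh.flat_appLE_iff (j ≫ f) (QCoh.isQCoh_restrict j hM) (isAffineOpen_top _) hV hT).2 hfl'
  have hring : ∀ r, (j ≫ f).appLE V ⊤ hT r = (Scheme.ΓSpecIso Γ(X, U)).inv (f.appLE V U hUV r) := fun r => by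
    have e1 : j.appLE U ⊤ hU.fromSpec_preimage_self.ge = (Scheme.ΓSpecIso Γ(X, U)).inv := by
      rw [Scheme.Hom.appLE, hU.fromSpec_app_self, Category.assoc, ← Functor.map_comp]
      exact (congrArg _ ((Spec Γ(X, U)).presheaf.map_id _)).trans (Category.comp_id _)
    rw [← e1, ← CommRingCat.comp_apply, Scheme.Hom.appLE_comp_appLE]
  letI : Module Γ(Y, V) Γ(M.restrict j, ⊤) := Module.compHom _ ((j ≫ f).appLE V ⊤ hT).hom
  let e : ((ModuleCat.restrictScalars (f.appLE V U hUV).hom).obj (secMod M hU)) ≃ₗ[Γ(Y, V)] Γ(M.restrict j, ⊤) :=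
    { AddEquiv.refl _ with
      map_smul' := fun r x => by
        show _ = (j ≫ f).appLE V ⊤ hT r • (show Γ(M.restrict j, ⊤) from x)
        rw [hring]
        rfl }
  exact Module.Flat.of_linearEquiv e

end Groth.Agent.KSix54
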