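import Groth.Agent.KSix54.Rel.BaseChange
import Groth.Agent.PerfMor.FlatPC
import Groth.Agent.PCMor.Scheme
import Mathlib.AlgebraicGeometry.Morphisms.Smooth

/-! Flat finitely presented morphisms and closed immersions into them. -/

set_option linter.style.haveILetI false
set_option backward.isDefEq.respectTransparency false

universe u

open CategoryTheory CategoryTheory.Limits AlgebraicGeometry

attribute [local instance] HasDerivedCategory.standard

namespace Groth.Agent.KSix54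

open Groth.Agent.KFlatLib Groth.Agent.H9Misc Groth.Agent.H9Misc.DRingRelPC

theorem nq_of_q {A B : Type u} [CommRing A] [CommRing B] {φ : A →+* B} (h : PCMor.Q φ) (s : ℤ) :
    NQ s φ := by
  obtain ⟨n, ψ, h1, h2, h3⟩ := h
  exact (nPC_Spec_iff_of_pres (CommRingCat.ofHom φ) (CommRingCat.ofHom ψ) h2
    fun a => RingHom.congr_fun h1 a).2 ((DRingPC.pc'_iff _).1 h3 s)

theorem q_of_nq {A B : Type u} [CommRing A] [CommRing B] {φ : A →+* B} (h : ∀ s, NQ s φ) :
    PCMor.Q φ := by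
  obtain ⟨n, ψ, hψ, hC⟩ := exists_pres_of_nPC (f := CommRingCat.ofHom φ) (h 0)
  exact ⟨n, ψ.hom, RingHom.ext hC, hψ, (DRingPC.pc'_iff _).2 fun s =>
    (nPC_Spec_iff_of_pres (CommRingCat.ofHom φ) ψ hψ hC).1 (h s)⟩

variable {X Y Z : Scheme.{u}}

/-- Pseudo-coherent to every degree means pseudo-coherent. -/
theorem isNPseudoCoherent_all_iff (f : X ⟶ Y) :
    (∀ s, DerSch.IsNPseudoCoherent f s) ↔ MoreMor.IsPseudoCoherentMor f := by
  rw [PCMor.pcMor_iff]
  constructor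
  · intro h U V e
    exact q_of_nq fun s => HasRingHomProperty.appLE (NPC.{u} s) f (h s) U V e
  · intro h s
    exact (HasRingHomProperty.iff_appLE (P := NPC.{u} s)).2 fun {U V e} => nq_of_q (h U V e) s

theorem isNPseudoCoherent_flat (g : Y ⟶ Z) [Flat g] [LocallyOfFinitePresentation g] (s : ℤ) :
    DerSch.IsNPseudoCoherent g s := by
  refine (HasRingHomProperty.iff_appLE (P := NPC.{u} s)).2 fun {U V e} => nq_of_q ?_ s
  letI := (g.appLE U.1 V.1 e).hom.toAlgebra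
  haveI : Module.Flat Γ(Z, U.1) Γ(Y, V.1) := HasRingHomProperty.appLE @Flat g inferInstance U V e
  haveI : Algebra.FinitePresentation Γ(Z, U.1) Γ(Y, V.1) :=
    HasRingHomProperty.appLE @LocallyOfFinitePresentation g inferInstance U V e
  exact PerfMor.q_of_flat_fp Γ(Z, U.1) Γ(Y, V.1)

/-- A presentation of the inverse image under a closed immersion. -/
lemma isPres_preimage (f : X ⟶ Y) [IsClosedImmersion f] (g : Y ⟶ Z) {V : Y.Opens} {W : Z.Opens}
    (hV : IsAffineOpen V) {k : ℕ} (ψ : CommRingCat.of (MvPolynomial (Fin k) Γ(Z, W)) ⟶ Γ(Y, V))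
    (hψ : IsPres g V W ψ) : IsPres (f ≫ g) (f ⁻¹ᵁ V) W (ψ ≫ f.app V) := by
  refine ⟨f.preimage_mono hψ.1, (f.app_surjective V hV).comp hψ.surjective, fun r => ?_⟩
  rw [CommRingCat.comp_apply, hψ.2.2, ← CommRingCat.comp_apply, Scheme.Hom.app_eq_appLE,
    Scheme.Hom.appLE_comp_appLE]

/-- The test of a closed immersion into a pseudo-coherent morphism is absolute pseudo-coherence of
the direct image. -/
theorem pcOn_preimage_iff (f : X ⟶ Y) [IsClosedImmersion f] (g : Y ⟶ Z) {m : ℤ} (K : DCoh.D X)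
    {V : Y.Opens} {W : Z.Opens} (hV : IsAffineOpen V) (hW : IsAffineOpen W) {k : ℕ}
    (ψ : CommRingCat.of (MvPolynomial (Fin k) Γ(Z, W)) ⟶ Γ(Y, V)) (hψ : IsPres g V W ψ)
    (hg : ∀ t, DerSch.IsNPseudoCoherent g t) :
    PCOn (f ≫ g) m K (f ⁻¹ᵁ V) W ↔ LocPC m ((rho V.ι).obj ((pushD f).obj K)) := by
  have hU : IsAffineOpen (f ⁻¹ᵁ V) := hV.preimage f
  have hφ := isPres_preimage f g hV ψ hψ
  haveI := isClosedImmersion_imm hV ψ hψ.surjective
  haveI := isClosedImmersion_imm hU _ hφ.surjective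
  haveI := restrict_closed f V
  have hfac : imm (f ⁻¹ᵁ V) (ψ ≫ f.app V) = (f ∣_ V) ≫ imm V ψ := by
    simp only [imm, Spec.map_comp, ← Category.assoc]
    rw [Scheme.Opens.toSpecΓ_naturality]
  let e : (pushD (imm (f ⁻¹ᵁ V) (ψ ≫ f.app V))).obj ((rho (f ⁻¹ᵁ V).ι).obj K) ≅
      (pushD (imm V ψ)).obj ((rho V.ι).obj ((pushD f).obj K)) :=
    pushDCongr hfac _ ≪≫ pushDComp _ _ _ ≪≫ (pushD (imm V ψ)).mapIso (pushRho f V K).symm
  rw [← locPC_push_iff (imm V ψ) (fun t => pushPC_of_isNPseudoCoherent (hg t) hV hW ψ hψ)]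
  constructor
  · intro h
    exact LocPC.of_iso e (h.any hU _ hφ)
  · intro h
    exact ⟨hU, _, _, hφ, LocPC.of_iso e.symm h⟩

theorem isPseudoCoherentRel_comp_closed_iff (f : X ⟶ Y) [IsClosedImmersion f] (g : Y ⟶ Z)
    [LocallyOfFiniteType g] (hg : ∀ t, DerSch.IsNPseudoCoherent g t) {m : ℤ} (K : DCoh.D X) :
    DerSch.IsPseudoCoherentRel (f ≫ g) m K ↔ LocPC m ((pushD f).obj K) := by
  constructor
  · intro h
    refine LocPC.of_local fun y => ?_
    obtain ⟨W, hW, hyW, -⟩ :=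
      exists_isAffineOpen_mem_and_subset (X := Z) (x := g.base y) (U := ⊤) trivial
    obtain ⟨V, hV, hyV, hVW⟩ :=
      exists_isAffineOpen_mem_and_subset (X := Y) (x := y) (U := g ⁻¹ᵁ W) hyW
    obtain ⟨k, ψ, hψ⟩ := exists_isPres (f := g) hV hW hVW
    exact ⟨_, V.ι, inferInstance, ⟨⟨y, hyV⟩, rfl⟩, (pcOn_preimage_iff f g K hV hW ψ hψ hg).1
      ((isPseudoCoherentRel_iff.1 h).2 _ W (hV.preimage f) hW (f.preimage_mono hVW))⟩
  · intro h
    refine isPseudoCoherentRel_of_locally fun x => ?_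
    obtain ⟨W, hW, hyW, -⟩ :=
      exists_isAffineOpen_mem_and_subset (X := Z) (x := g.base (f.base x)) (U := ⊤) trivial
    obtain ⟨V, hV, hyV, hVW⟩ :=
      exists_isAffineOpen_mem_and_subset (X := Y) (x := f.base x) (U := g ⁻¹ᵁ W) hyW
    obtain ⟨k, ψ, hψ⟩ := exists_isPres (f := g) hV hW hVW
    exact ⟨f ⁻¹ᵁ V, W, hyV, hW, (pcOn_preimage_iff f g K hV hW ψ hψ hg).2 (LocPC.restrict h V.ι)⟩

end Groth.Agent.KSix54
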